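import Mathlib
import Cfsg.Agent.LieClassical.SLGen
import Cfsg.Agent.FastGrp
import Cfsg.Agent.Prune
set_option linter.all false
prune_inst 0x7ffea9fbabfdb1dfdfff7fffffdedffdfdb9bfffe6fffdcbffe861ff0bff4f88cdc7fff58ffb12fe1ff7e214d5fafb53fdffffffea6bfa7ffffd1ff49ffbffdffdf7b508519c88b40f380fff03f07f8e7f3fffffffffffffffffffffffffffaeffbfffffffff
open scoped Cfsg.Agent.FastGrp

-- part: H428/OT/Lin
section
/-!
# Linear algebra for the short `A₂` of `F₄` (helper428), for S2539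

* `exists_diag_of_invol` : `H * H = 1`, `2 ≠ 0`: `B * H * B⁻¹` is diagonal for some `B ∈ SL₃(K)`;
* `exists_diag_of_symm` : `Hᵀ = H`, `2 ≠ 0`: `B * H * Bᵀ` is diagonal for some `B ∈ SL₃(K)`;
* `det_eq_zero_of_skew`.
-/

set_option autoImplicit false

namespace Cfsg.Agent.H428.OT.Lin

open Matrix

universe u

variable {K : Type u} [Field K]

theorem det_eq_zero_of_skew (h2 : (2 : K) ≠ 0) {H : Matrix (Fin 3) (Fin 3) K} (h : Hᵀ = -H) : H.det = 0 := by
  have h1 : H.det = -H.det := by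
    conv_lhs => rw [← det_transpose, h, det_neg]
    simp only [Fintype.card_fin]
    ring
  have h3 : (2 : K) * H.det = 0 := by linear_combination h1
  exact (mul_eq_zero.1 h3).resolve_left h2

/-- correction of the determinant -/
theorem exists_sl {B : Matrix (Fin 3) (Fin 3) K} (hB : B.det ≠ 0) :
    ∃ C : _root_.Matrix.SpecialLinearGroup (Fin 3) K, ∃ d : Fin 3 → K, (∀ i, d i ≠ 0) ∧
      (C : Matrix (Fin 3) (Fin 3) K) = diagonal d * B := by
  refine ⟨⟨diagonal ![(B.det)⁻¹, 1, 1] * B, ?_⟩, ![(B.det)⁻¹, 1, 1], ?_, rfl⟩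
  · rw [det_mul, det_diagonal, Fin.prod_univ_three]
    simp [inv_mul_cancel₀ hB]
  · intro i
    fin_cases i
    · exact inv_ne_zero hB
    · exact one_ne_zero
    · exact one_ne_zero

/-- **Diagonalisation of involutions** -/
theorem exists_diag_of_invol (h2 : (2 : K) ≠ 0) {H : Matrix (Fin 3) (Fin 3) K} (hH : H * H = 1) :
    ∃ (B : _root_.Matrix.SpecialLinearGroup (Fin 3) K) (e : Fin 3 → K), (B : Matrix (Fin 3) (Fin 3) K) * H = diagonal e * B := by
  classical
  set f : (Fin 3 → K) →ₗ[K] (Fin 3 → K) := toLin' H with hf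
  have hff : ∀ x, f (f x) = x := by
    intro x
    rw [hf, toLin'_apply, toLin'_apply, mulVec_mulVec, hH, one_mulVec]
  set P : Submodule K (Fin 3 → K) := LinearMap.ker (f - LinearMap.id) with hP
  set Q : Submodule K (Fin 3 → K) := LinearMap.ker (f + LinearMap.id) with hQ
  have mP : ∀ x, x ∈ P ↔ f x = x := by
    intro x
    rw [hP, LinearMap.mem_ker, LinearMap.sub_apply, LinearMap.id_apply, sub_eq_zero]
  have mQ : ∀ x, x ∈ Q ↔ f x = -x := by
    intro x
    rw [hQ, LinearMap.mem_ker, LinearMap.add_apply, LinearMap.id_apply, add_eq_zero_iff_eq_neg]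
  have hc : IsCompl P Q := by
    constructor
    · rw [Submodule.disjoint_def]
      intro x hx hx'
      rw [mP] at hx
      rw [mQ] at hx'
      have h3 : (2 : K) • x = 0 := by
        rw [two_smul]
        nth_rewrite 1 [← hx]
        rw [hx', neg_add_cancel]
      exact (smul_eq_zero.1 h3).resolve_left h2
    · rw [codisjoint_iff, eq_top_iff]
      intro x _
      rw [Submodule.mem_sup]
      refine ⟨(2 : K)⁻¹ • (x + f x), ?_, (2 : K)⁻¹ • (x - f x), ?_, ?_⟩
      · rw [mP, map_smul, map_add, hff, add_comm]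
      · rw [mQ, map_smul, map_sub, hff, ← smul_neg, neg_sub]
      · rw [← smul_add]
        have : x + f x + (x - f x) = (2 : K) • x := by rw [two_smul]; abel
        rw [this, smul_smul, inv_mul_cancel₀ h2, one_smul]
  let bP := Module.finBasis K P
  let bQ := Module.finBasis K Q
  let b0 := (bP.prod bQ).map (Submodule.prodEquivOfIsCompl P Q hc)
  have hcard : Fintype.card (Fin (Module.finrank K P) ⊕ Fin (Module.finrank K Q)) = Fintype.card (Fin 3) := by
    have h3 := Module.finrank_eq_card_basis b0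
    rw [Module.finrank_fin_fun] at h3
    rw [← h3, Fintype.card_fin]
  let e0 := Fintype.equivOfCardEq hcard
  let b := b0.reindex e0
  have key : ∀ i, ∃ c : K, f (b i) = c • b i := by
    intro i
    have hb : b i = b0 (e0.symm i) := Module.Basis.reindex_apply _ _ _
    rcases h : e0.symm i with j | j
    · refine ⟨1, ?_⟩
      have h3 : b i = (bP j : Fin 3 → K) := by
        rw [hb, h]
        simp only [b0, Submodule.coe_prodEquivOfIsCompl', _root_.Module.Basis.map_apply, _root_.Module.Basis.prod_apply, _root_.LinearMap.coe_inl, _root_.LinearMap.coe_inr, _root_.Sum.elim_inl, _root_.Function.comp_apply, _root_.ZeroMemClass.coe_zero, _root_.add_zero]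
      rw [h3, one_smul]
      exact (mP _).1 (bP j).2
    · refine ⟨-1, ?_⟩
      have h3 : b i = (bQ j : Fin 3 → K) := by
        rw [hb, h]
        simp only [b0, Submodule.coe_prodEquivOfIsCompl', _root_.Module.Basis.map_apply, _root_.Module.Basis.prod_apply, _root_.LinearMap.coe_inl, _root_.LinearMap.coe_inr, _root_.Sum.elim_inr, _root_.Function.comp_apply, _root_.ZeroMemClass.coe_zero, _root_.zero_add]
      rw [h3, neg_one_smul]
      exact (mQ _).1 (bQ j).2
  choose c hc' using key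
  -- the matrix of the basis
  let M : Matrix (Fin 3) (Fin 3) K := (Pi.basisFun K (Fin 3)).toMatrix b
  let N : Matrix (Fin 3) (Fin 3) K := b.toMatrix (Pi.basisFun K (Fin 3))
  have hMN : N * M = 1 := Module.Basis.toMatrix_mul_toMatrix_flip b (Pi.basisFun K (Fin 3))
  have hMN' : M * N = 1 := Module.Basis.toMatrix_mul_toMatrix_flip (Pi.basisFun K (Fin 3)) b
  have hHM : H * M = M * diagonal c := by
    ext i j
    have h3 := congrFun (hc' j) i
    rw [hf, toLin'_apply] at h3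
    have hM : ∀ k l, M k l = b l k := fun k l => by
      simp [M, Module.Basis.toMatrix_apply]
    rw [mul_diagonal, mul_apply, hM]
    simp only [hM]
    rw [Pi.smul_apply, smul_eq_mul] at h3
    rw [mul_comm, ← h3]
    rfl
  have hNH : N * H = diagonal c * N := by
    calc N * H = N * (H * (M * N)) := by rw [hMN', mul_one]
      _ = N * ((H * M) * N) := by rw [mul_assoc H]
      _ = N * (M * diagonal c * N) := by rw [hHM]
      _ = (N * M) * (diagonal c * N) := by simp only [mul_assoc]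
      _ = diagonal c * N := by rw [hMN, one_mul]
  have hdet : N.det ≠ 0 := by
    intro h0
    have := congrArg det hMN
    rw [det_mul, h0, zero_mul, det_one] at this
    exact zero_ne_one this
  obtain ⟨B, d, hd, hB⟩ := exists_sl hdet
  refine ⟨B, c, ?_⟩
  rw [hB, mul_assoc, hNH, ← mul_assoc, ← mul_assoc]
  congr 1
  rw [diagonal_mul_diagonal, diagonal_mul_diagonal]
  congr 1
  funext i
  exact mul_comm _ _

/-- **Diagonalisation of symmetric matrices** -/
theorem exists_diag_of_symm (h2 : (2 : K) ≠ 0) {H : Matrix (Fin 3) (Fin 3) K} (hH : Hᵀ = H) :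
    ∃ (B : _root_.Matrix.SpecialLinearGroup (Fin 3) K) (e : Fin 3 → K),
      (B : Matrix (Fin 3) (Fin 3) K) * H * (B : Matrix (Fin 3) (Fin 3) K)ᵀ = diagonal e := by
  classical
  have : Invertible (2 : K) := invertibleOfNonzero h2
  let β : LinearMap.BilinForm K (Fin 3 → K) := Matrix.toBilin' H
  have hsym : LinearMap.IsSymm β := by
    refine ⟨fun x y => ?_⟩
    show Matrix.toBilin' H x y = Matrix.toBilin' H y x
    rw [Matrix.toBilin'_apply', Matrix.toBilin'_apply', dotProduct_comm, ← Matrix.vecMul_transpose, hH,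
      ← Matrix.dotProduct_mulVec]
  obtain ⟨v0, hv0⟩ := LinearMap.BilinForm.exists_orthogonal_basis hsym
  have hcard : Module.finrank K (Fin 3 → K) = 3 := Module.finrank_fin_fun K
  let v := v0.reindex (finCongr hcard)
  have hv : ∀ i j, i ≠ j → v i ⬝ᵥ (H *ᵥ v j) = 0 := by
    intro i j hij
    rw [← Matrix.toBilin'_apply']
    have h3 := LinearMap.isOrthoᵢ_def.1 hv0 ((finCongr hcard).symm i) ((finCongr hcard).symm j)
      (fun h => hij ((finCongr hcard).symm.injective h))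
    rw [Module.Basis.reindex_apply, Module.Basis.reindex_apply]
    exact h3
  let M : Matrix (Fin 3) (Fin 3) K := (Pi.basisFun K (Fin 3)).toMatrix v
  let N : Matrix (Fin 3) (Fin 3) K := v.toMatrix (Pi.basisFun K (Fin 3))
  have hMN : N * M = 1 := Module.Basis.toMatrix_mul_toMatrix_flip v (Pi.basisFun K (Fin 3))
  have hM : ∀ k l, M k l = v l k := fun k l => by
    simp [M, Module.Basis.toMatrix_apply]
  have hdet : Mᵀ.det ≠ 0 := by
    rw [det_transpose]
    intro h0
    have := congrArg det hMN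
    rw [det_mul, h0, mul_zero, det_one] at this
    exact zero_ne_one this
  have hD : Mᵀ * H * M = diagonal fun i => v i ⬝ᵥ (H *ᵥ v i) := by
    ext i j
    have h3 : (Mᵀ * H * M) i j = v i ⬝ᵥ (H *ᵥ v j) := by
      rw [mul_assoc, mul_apply, dotProduct]
      refine Finset.sum_congr rfl fun k _ => ?_
      rw [transpose_apply, hM, mul_apply, mulVec, dotProduct]
      simp only [hM]
    rw [h3]
    by_cases hij : i = j
    · rw [hij, diagonal_apply_eq]
    · rw [diagonal_apply_ne _ hij, hv i j hij]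
  obtain ⟨B, d, hd, hB⟩ := exists_sl hdet
  refine ⟨B, fun i => d i * (v i ⬝ᵥ (H *ᵥ v i)) * d i, ?_⟩
  have h4 : (B : Matrix (Fin 3) (Fin 3) K) * H * (B : Matrix (Fin 3) (Fin 3) K)ᵀ =
      diagonal d * (Mᵀ * H * M) * diagonal d := by
    rw [hB, transpose_mul, transpose_transpose, diagonal_transpose]
    simp only [mul_assoc]
  rw [h4, hD, diagonal_mul_diagonal, diagonal_mul_diagonal]

end Cfsg.Agent.H428.OT.Lin
end

-- part: H428/OT/Act
section
/-!
# Elements acting on the image of `SL₃(K)` (helper428), for S2539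

`π : SL₃(K) →* G`, kernel central.

* `cjS H X = H X H⁻¹`, `ti X = (X⁻¹)ᵀ`; `ActA π g H : g π(X) g⁻¹ = π(H X H⁻¹)`, `ActT π g H : g π(X) g⁻¹ = π(H (X⁻¹)ᵀ H⁻¹)`;
* `scalar_of` : an element acting trivially acts as a scalar matrix;
* `exists_diag` : `g` acts as `H`, `g ^ 2` acts trivially: some `π A * g * (π A)⁻¹` acts as a diagonal matrix;
* `exists_diagT` : the same for `ActT`.
-/

set_option autoImplicit false

namespace Cfsg.Agent.H428.OT.Lin

open Matrix
open scoped commutatorElement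

universe u v

variable {K : Type u} [Field K] {G : Type v} [Group G]

theorem slext {A B : _root_.Matrix.SpecialLinearGroup (Fin 3) K} (h : (A : Matrix (Fin 3) (Fin 3) K) = B) : A = B := Subtype.ext h

theorem cmul (A B : _root_.Matrix.SpecialLinearGroup (Fin 3) K) :
    ((A * B : _root_.Matrix.SpecialLinearGroup (Fin 3) K) : Matrix (Fin 3) (Fin 3) K) =
      (A : Matrix (Fin 3) (Fin 3) K) * (B : Matrix (Fin 3) (Fin 3) K) := rfl

theorem cone : ((1 : _root_.Matrix.SpecialLinearGroup (Fin 3) K) : Matrix (Fin 3) (Fin 3) K) = 1 := rfl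

/-- conjugation by a matrix -/
def cjS (H : GL (Fin 3) K) : _root_.Matrix.SpecialLinearGroup (Fin 3) K →* _root_.Matrix.SpecialLinearGroup (Fin 3) K where
  toFun X := ⟨(H : Matrix (Fin 3) (Fin 3) K) * (X : Matrix (Fin 3) (Fin 3) K) *
      ((H⁻¹ : GL (Fin 3) K) : Matrix (Fin 3) (Fin 3) K), by
    rw [det_mul, det_mul, X.det_coe, mul_one, ← det_mul, ← Units.val_mul, mul_inv_cancel, Units.val_one, det_one]⟩
  map_one' := by
    apply Subtype.ext
    show (H : Matrix (Fin 3) (Fin 3) K) * 1 * ((H⁻¹ : GL (Fin 3) K) : Matrix (Fin 3) (Fin 3) K) = 1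
    rw [mul_one, ← Units.val_mul, mul_inv_cancel, Units.val_one]
  map_mul' X Y := by
    apply Subtype.ext
    show (H : Matrix (Fin 3) (Fin 3) K) * ((X : Matrix (Fin 3) (Fin 3) K) * Y) *
        ((H⁻¹ : GL (Fin 3) K) : Matrix (Fin 3) (Fin 3) K) =
      (H : Matrix (Fin 3) (Fin 3) K) * X * ((H⁻¹ : GL (Fin 3) K) : Matrix (Fin 3) (Fin 3) K) *
        ((H : Matrix (Fin 3) (Fin 3) K) * Y * ((H⁻¹ : GL (Fin 3) K) : Matrix (Fin 3) (Fin 3) K))
    have h1 : ((H⁻¹ : GL (Fin 3) K) : Matrix (Fin 3) (Fin 3) K) * (H : Matrix (Fin 3) (Fin 3) K) = 1 := by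
      rw [← Units.val_mul, inv_mul_cancel, Units.val_one]
    calc _ = (H : Matrix (Fin 3) (Fin 3) K) * X * 1 * (Y * ((H⁻¹ : GL (Fin 3) K) : Matrix (Fin 3) (Fin 3) K)) := by
          rw [mul_one]; simp only [mul_assoc]
      _ = _ := by rw [← h1]; simp only [mul_assoc]

theorem coe_cjS (H : GL (Fin 3) K) (X : _root_.Matrix.SpecialLinearGroup (Fin 3) K) :
    ((cjS H X : _root_.Matrix.SpecialLinearGroup (Fin 3) K) : Matrix (Fin 3) (Fin 3) K) =
      (H : Matrix (Fin 3) (Fin 3) K) * (X : Matrix (Fin 3) (Fin 3) K) *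
        ((H⁻¹ : GL (Fin 3) K) : Matrix (Fin 3) (Fin 3) K) := rfl

theorem cjS_mul (H H' : GL (Fin 3) K) (X : _root_.Matrix.SpecialLinearGroup (Fin 3) K) : cjS (H * H') X = cjS H (cjS H' X) := by
  apply slext
  rw [coe_cjS, coe_cjS, coe_cjS, _root_.mul_inv_rev, Units.val_mul, Units.val_mul]
  simp only [mul_assoc]

theorem cjS_one (X : _root_.Matrix.SpecialLinearGroup (Fin 3) K) : cjS (1 : GL (Fin 3) K) X = X := by
  apply slext
  rw [coe_cjS, inv_one, Units.val_one, one_mul, mul_one]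

/-- `SL₃ → GL₃` -/
def toG (A : _root_.Matrix.SpecialLinearGroup (Fin 3) K) : GL (Fin 3) K where
  val := A
  inv := (A⁻¹ : _root_.Matrix.SpecialLinearGroup (Fin 3) K)
  val_inv := by
    show (A : Matrix (Fin 3) (Fin 3) K) * ((A⁻¹ : _root_.Matrix.SpecialLinearGroup (Fin 3) K) : Matrix (Fin 3) (Fin 3) K) = 1
    rw [← cmul, mul_inv_cancel, cone]
  inv_val := by
    show ((A⁻¹ : _root_.Matrix.SpecialLinearGroup (Fin 3) K) : Matrix (Fin 3) (Fin 3) K) * (A : Matrix (Fin 3) (Fin 3) K) = 1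
    rw [← cmul, inv_mul_cancel, cone]

@[simp] theorem coe_toG (A : _root_.Matrix.SpecialLinearGroup (Fin 3) K) :
    ((toG A : GL (Fin 3) K) : Matrix (Fin 3) (Fin 3) K) = A := rfl

theorem cjS_toG (A X : _root_.Matrix.SpecialLinearGroup (Fin 3) K) : cjS (toG A) X = A * X * A⁻¹ := by
  apply slext
  rfl

/-- inverse transpose -/
def ti : _root_.Matrix.SpecialLinearGroup (Fin 3) K →* _root_.Matrix.SpecialLinearGroup (Fin 3) K where
  toFun X := SpecialLinearGroup.transpose X⁻¹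
  map_one' := by
    apply slext
    show (((1 : _root_.Matrix.SpecialLinearGroup (Fin 3) K)⁻¹ : _root_.Matrix.SpecialLinearGroup (Fin 3) K) : Matrix (Fin 3) (Fin 3) K)ᵀ = 1
    rw [inv_one, cone, transpose_one]
  map_mul' X Y := by
    apply slext
    show (((X * Y)⁻¹ : _root_.Matrix.SpecialLinearGroup (Fin 3) K) : Matrix (Fin 3) (Fin 3) K)ᵀ =
      ((X⁻¹ : _root_.Matrix.SpecialLinearGroup (Fin 3) K) : Matrix (Fin 3) (Fin 3) K)ᵀ *
        ((Y⁻¹ : _root_.Matrix.SpecialLinearGroup (Fin 3) K) : Matrix (Fin 3) (Fin 3) K)ᵀ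
    rw [_root_.mul_inv_rev, cmul, transpose_mul]

theorem coe_ti (X : _root_.Matrix.SpecialLinearGroup (Fin 3) K) :
    ((ti X : _root_.Matrix.SpecialLinearGroup (Fin 3) K) : Matrix (Fin 3) (Fin 3) K) =
      ((X⁻¹ : _root_.Matrix.SpecialLinearGroup (Fin 3) K) : Matrix (Fin 3) (Fin 3) K)ᵀ := rfl

/-- inverse transpose on `GL₃` -/
def tiG (H : GL (Fin 3) K) : GL (Fin 3) K where
  val := ((H⁻¹ : GL (Fin 3) K) : Matrix (Fin 3) (Fin 3) K)ᵀ
  inv := (H : Matrix (Fin 3) (Fin 3) K)ᵀ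
  val_inv := by rw [← transpose_mul, ← Units.val_mul, mul_inv_cancel, Units.val_one, transpose_one]
  inv_val := by rw [← transpose_mul, ← Units.val_mul, inv_mul_cancel, Units.val_one, transpose_one]

theorem coe_tiG (H : GL (Fin 3) K) : ((tiG H : GL (Fin 3) K) : Matrix (Fin 3) (Fin 3) K) =
    ((H⁻¹ : GL (Fin 3) K) : Matrix (Fin 3) (Fin 3) K)ᵀ := rfl

theorem coe_tiG_inv (H : GL (Fin 3) K) : (((tiG H)⁻¹ : GL (Fin 3) K) : Matrix (Fin 3) (Fin 3) K) =
    (H : Matrix (Fin 3) (Fin 3) K)ᵀ := rfl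

theorem cjS_inv (H : GL (Fin 3) K) (X : _root_.Matrix.SpecialLinearGroup (Fin 3) K) : (cjS H X)⁻¹ = cjS H X⁻¹ :=
  (map_inv (cjS H) X).symm

theorem ti_cjS (H : GL (Fin 3) K) (X : _root_.Matrix.SpecialLinearGroup (Fin 3) K) : ti (cjS H X) = cjS (tiG H) (ti X) := by
  apply slext
  rw [coe_ti, cjS_inv, coe_cjS, coe_cjS, coe_tiG, coe_tiG_inv, coe_ti, transpose_mul, transpose_mul, mul_assoc]

theorem ti_ti (X : _root_.Matrix.SpecialLinearGroup (Fin 3) K) : ti (ti X) = X := by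
  apply slext
  rw [coe_ti, ← map_inv ti, coe_ti, inv_inv, transpose_transpose]

variable (π : _root_.Matrix.SpecialLinearGroup (Fin 3) K →* G)

/-- `g` acts on the image as the matrix `H`. -/
def ActA (g : G) (H : GL (Fin 3) K) : Prop := ∀ X, g * π X * g⁻¹ = π (cjS H X)

/-- `g` acts on the image as inverse transpose followed by the matrix `H`. -/
def ActT (g : G) (H : GL (Fin 3) K) : Prop := ∀ X, g * π X * g⁻¹ = π (cjS H (ti X))

variable {π}

theorem actA_pi (A : _root_.Matrix.SpecialLinearGroup (Fin 3) K) : ActA π (π A) (toG A) := fun X => by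
  rw [cjS_toG, map_mul, map_mul, map_inv]

theorem ActA.mul {g g' : G} {H H' : GL (Fin 3) K} (h : ActA π g H) (h' : ActA π g' H') :
    ActA π (g * g') (H * H') := fun X => by
  have e : g * g' * π X * (g * g')⁻¹ = g * (g' * π X * g'⁻¹) * g⁻¹ := by group
  rw [e, h' X, h, cjS_mul]

theorem ActA.mulT {g g' : G} {H H' : GL (Fin 3) K} (h : ActA π g H) (h' : ActT π g' H') :
    ActT π (g * g') (H * H') := fun X => by
  have e : g * g' * π X * (g * g')⁻¹ = g * (g' * π X * g'⁻¹) * g⁻¹ := by group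
  rw [e, h' X, h, cjS_mul]

theorem ActT.mul {g g' : G} {H H' : GL (Fin 3) K} (h : ActT π g H) (h' : ActA π g' H') :
    ActT π (g * g') (H * tiG H') := fun X => by
  have e : g * g' * π X * (g * g')⁻¹ = g * (g' * π X * g'⁻¹) * g⁻¹ := by group
  rw [e, h' X, h, ti_cjS, cjS_mul]

theorem ActT.mulT {g g' : G} {H H' : GL (Fin 3) K} (h : ActT π g H) (h' : ActT π g' H') :
    ActA π (g * g') (H * tiG H') := fun X => by
  have e : g * g' * π X * (g * g')⁻¹ = g * (g' * π X * g'⁻¹) * g⁻¹ := by group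
  rw [e, h' X, h, ti_cjS, ti_ti, cjS_mul]

theorem ActA.inv {g : G} {H : GL (Fin 3) K} (h : ActA π g H) : ActA π g⁻¹ H⁻¹ := fun X => by
  have h1 := h (cjS H⁻¹ X)
  rw [← cjS_mul, mul_inv_cancel, cjS_one] at h1
  rw [← h1]
  group

/-- every transvection is a commutator of transvections -/
theorem exists_comm {i j : Fin 3} (hij : i ≠ j) (c : K) : ∃ X Y : _root_.Matrix.SpecialLinearGroup (Fin 3) K,
    SpecialLinearGroup.transvection hij c = ⁅X, Y⁆ := by
  obtain ⟨k, hik, hkj⟩ : ∃ k : Fin 3, i ≠ k ∧ k ≠ j := by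
    revert i j
    decide
  refine ⟨SpecialLinearGroup.transvection hik c, SpecialLinearGroup.transvection hkj 1, ?_⟩
  rw [LieClassical.SLGen.commutator_transvection hij hik hkj, mul_one]

theorem comm_eq_of_center {G : Type*} [Group G] {a b x y : G} (ha : a * x⁻¹ ∈ Subgroup.center G)
    (hb : b * y⁻¹ ∈ Subgroup.center G) : ⁅a, b⁆ = ⁅x, y⁆ := by
  obtain ⟨z, hz, e⟩ : ∃ z ∈ Subgroup.center G, a = z * x := ⟨a * x⁻¹, ha, by group⟩
  obtain ⟨w, hw, e'⟩ : ∃ w ∈ Subgroup.center G, b = w * y := ⟨b * y⁻¹, hb, by group⟩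
  have hz' : ∀ g, g * z = z * g := Subgroup.mem_center_iff.1 hz
  have hw' : ∀ g, g * w = w * g := Subgroup.mem_center_iff.1 hw
  have hz'' : ∀ g, g * z⁻¹ = z⁻¹ * g := Subgroup.mem_center_iff.1 (inv_mem hz)
  have hw'' : ∀ g, g * w⁻¹ = w⁻¹ * g := Subgroup.mem_center_iff.1 (inv_mem hw)
  rw [commutatorElement_def, commutatorElement_def, e, e', _root_.mul_inv_rev, _root_.mul_inv_rev]
  calc z * x * (w * y) * (x⁻¹ * z⁻¹) * (y⁻¹ * w⁻¹)
      = z * (x * w) * y * (x⁻¹ * z⁻¹) * y⁻¹ * w⁻¹ := by group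
    _ = z * w * x * y * (z⁻¹ * x⁻¹) * y⁻¹ * w⁻¹ := by rw [hw' x, hz'' x⁻¹]; group
    _ = z * w * ((x * y) * z⁻¹) * x⁻¹ * y⁻¹ * w⁻¹ := by group
    _ = z * w * (z⁻¹ * (x * y)) * x⁻¹ * y⁻¹ * w⁻¹ := by rw [hz'' (x * y)]
    _ = z * w * z⁻¹ * ((x * y * x⁻¹ * y⁻¹) * w⁻¹) := by group
    _ = z * w * z⁻¹ * (w⁻¹ * (x * y * x⁻¹ * y⁻¹)) := by rw [hw'' (x * y * x⁻¹ * y⁻¹)]
    _ = z * (w * z⁻¹) * w⁻¹ * (x * y * x⁻¹ * y⁻¹) := by group
    _ = z * (z⁻¹ * w) * w⁻¹ * (x * y * x⁻¹ * y⁻¹) := by rw [hz'' w]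
    _ = x * y * x⁻¹ * y⁻¹ := by group

/-- **A matrix acting trivially modulo the centre is scalar.** -/
theorem scalar_of' {H : GL (Fin 3) K} (h1 : ∀ X, cjS H X * X⁻¹ ∈ Subgroup.center (_root_.Matrix.SpecialLinearGroup (Fin 3) K)) :
    ∃ μ : K, (H : Matrix (Fin 3) (Fin 3) K) = scalar (Fin 3) μ := by
  have h2 : ∀ {i j : Fin 3} (hij : i ≠ j) (c : K),
      cjS H (SpecialLinearGroup.transvection hij c) = SpecialLinearGroup.transvection hij c := by
    intro i j hij c
    obtain ⟨X, Y, e⟩ := exists_comm hij c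
    rw [e, map_commutatorElement]
    exact comm_eq_of_center (h1 X) (h1 Y)
  obtain ⟨μ, hμ⟩ := mem_range_scalar_of_commute_transvectionStruct (M := (H : Matrix (Fin 3) (Fin 3) K)) fun t => by
    have h3 := congrArg (fun A : _root_.Matrix.SpecialLinearGroup (Fin 3) K => (A : Matrix (Fin 3) (Fin 3) K)) (h2 t.hij t.c)
    have h4 : ((SpecialLinearGroup.transvection t.hij t.c : _root_.Matrix.SpecialLinearGroup (Fin 3) K) : Matrix (Fin 3) (Fin 3) K) =
        t.toMatrix := rfl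
    simp only [coe_cjS, h4] at h3
    show t.toMatrix * (H : Matrix (Fin 3) (Fin 3) K) = (H : Matrix (Fin 3) (Fin 3) K) * t.toMatrix
    have h5 : ((H⁻¹ : GL (Fin 3) K) : Matrix (Fin 3) (Fin 3) K) * (H : Matrix (Fin 3) (Fin 3) K) = 1 := by
      rw [← Units.val_mul, inv_mul_cancel, Units.val_one]
    nth_rewrite 1 [← h3]
    rw [mul_assoc, h5, mul_one]
  exact ⟨μ, hμ.symm⟩

theorem cjS_mem_center (H : GL (Fin 3) K) {z : _root_.Matrix.SpecialLinearGroup (Fin 3) K}
    (hz : z ∈ Subgroup.center (_root_.Matrix.SpecialLinearGroup (Fin 3) K)) :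
    cjS H z ∈ Subgroup.center (_root_.Matrix.SpecialLinearGroup (Fin 3) K) := by
  rw [Subgroup.mem_center_iff] at hz ⊢
  intro g
  have h1 : g = cjS H (cjS H⁻¹ g) := by rw [← cjS_mul, mul_inv_cancel, cjS_one]
  rw [h1, ← map_mul, ← map_mul, hz]

variable (hker : π.ker ≤ Subgroup.center (_root_.Matrix.SpecialLinearGroup (Fin 3) K))

include hker

/-- two matrices with the same action differ by a scalar matrix -/
theorem scalar_of_eq {H H' : GL (Fin 3) K} (h : ∀ X, π (cjS H X) = π (cjS H' X)) :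
    ∃ μ : K, ((H'⁻¹ * H : GL (Fin 3) K) : Matrix (Fin 3) (Fin 3) K) = scalar (Fin 3) μ := by
  refine scalar_of' fun X => ?_
  have h1 : cjS H X * (cjS H' X)⁻¹ ∈ Subgroup.center (_root_.Matrix.SpecialLinearGroup (Fin 3) K) := hker (by
    rw [MonoidHom.mem_ker, map_mul, map_inv, h, mul_inv_cancel])
  have h2 := cjS_mem_center H'⁻¹ h1
  rwa [map_mul, map_inv, ← cjS_mul, ← cjS_mul, inv_mul_cancel, cjS_one] at h2

/-- **A matrix acting trivially modulo the kernel is scalar.** -/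
theorem scalar_of {H : GL (Fin 3) K} (h : ∀ X, π (cjS H X) = π X) :
    ∃ μ : K, (H : Matrix (Fin 3) (Fin 3) K) = scalar (Fin 3) μ :=
  scalar_of' fun X => hker (by rw [MonoidHom.mem_ker, map_mul, map_inv, h, mul_inv_cancel])

theorem ActA.scalar_of {g : G} {H : GL (Fin 3) K} (h : ActA π g H) (hc : ∀ X, g * π X = π X * g) :
    ∃ μ : K, (H : Matrix (Fin 3) (Fin 3) K) = scalar (Fin 3) μ := by
  refine Lin.scalar_of hker fun X => ?_
  rw [← h X, hc, mul_inv_cancel_right]

end Cfsg.Agent.H428.OT.Lin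
end

-- part: H428/OT/Act2
section
/-!
# Elements acting on the image of `SL₃(K)`, II (helper428), for S2539

* `Dg`, `Nm` : the diagonal matrices of `GL₃(K)` and their normaliser;
* `ActA.exists_diag`, `ActT.exists_diag` : `g ^ 2` acts trivially: `g` acts as a diagonal matrix after a conjugation;
* `q1`, `q2` : the abstract forms of the facts (Q1), (Q2).
-/

set_option autoImplicit false

namespace Cfsg.Agent.H428.OT.Lin

open Matrix
open scoped commutatorElement

universe u v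

variable {K : Type u} [Field K] {G : Type v} [Group G]

theorem gext {A B : GL (Fin 3) K} (h : (A : Matrix (Fin 3) (Fin 3) K) = B) : A = B := Units.ext h

theorem det_ne (H : GL (Fin 3) K) : (H : Matrix (Fin 3) (Fin 3) K).det ≠ 0 := by
  have h1 : (H : Matrix (Fin 3) (Fin 3) K).det * ((H⁻¹ : GL (Fin 3) K) : Matrix (Fin 3) (Fin 3) K).det = 1 := by
    rw [← det_mul, ← Units.val_mul, mul_inv_cancel, Units.val_one, det_one]
  exact left_ne_zero_of_mul_eq_one h1

variable (K) in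
/-- the diagonal matrices -/
def Dg : Subgroup (GL (Fin 3) K) where
  carrier := {H | ∃ d : Fin 3 → K, (H : Matrix (Fin 3) (Fin 3) K) = diagonal d}
  one_mem' := ⟨1, by rw [Units.val_one]; exact diagonal_one.symm⟩
  mul_mem' := by
    rintro A B ⟨d, hd⟩ ⟨e, he⟩
    exact ⟨fun i => d i * e i, by rw [Units.val_mul, hd, he, diagonal_mul_diagonal]⟩
  inv_mem' := by
    rintro A ⟨d, hd⟩
    have h0 : ∀ i, d i ≠ 0 := by
      have h1 := det_ne A
      rw [hd, det_diagonal] at h1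
      exact fun i => (Finset.prod_ne_zero_iff.1 h1) i (Finset.mem_univ i)
    refine ⟨fun i => (d i)⁻¹, ?_⟩
    have h2 : (A : Matrix (Fin 3) (Fin 3) K) * diagonal (fun i => (d i)⁻¹) = 1 := by
      rw [hd, diagonal_mul_diagonal, ← diagonal_one]
      congr 1
      funext i
      exact mul_inv_cancel₀ (h0 i)
    calc ((A⁻¹ : GL (Fin 3) K) : Matrix (Fin 3) (Fin 3) K)
        = ((A⁻¹ : GL (Fin 3) K) : Matrix (Fin 3) (Fin 3) K) * ((A : Matrix (Fin 3) (Fin 3) K) *
            diagonal (fun i => (d i)⁻¹)) := by rw [h2, mul_one]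
      _ = diagonal (fun i => (d i)⁻¹) := by
        rw [← mul_assoc, ← Units.val_mul, inv_mul_cancel, Units.val_one, one_mul]

theorem mem_Dg_of_scalar {H : GL (Fin 3) K} (h : ∃ μ : K, (H : Matrix (Fin 3) (Fin 3) K) = scalar (Fin 3) μ) :
    H ∈ Dg K := by
  obtain ⟨μ, h⟩ := h
  exact ⟨fun _ => μ, h⟩

variable (K) in
/-- the normaliser of the diagonal matrices -/
def Nm : Subgroup (GL (Fin 3) K) := Subgroup.normalizer (Dg K : Set (GL (Fin 3) K))

theorem Dg_le_Nm : Dg K ≤ Nm K := Subgroup.le_normalizer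

theorem conj_mem_Dg {M H : GL (Fin 3) K} (hM : M ∈ Nm K) (hH : H ∈ Dg K) : M * H * M⁻¹ ∈ Dg K :=
  (Subgroup.mem_normalizer_iff.1 hM H).1 hH

variable {π : _root_.Matrix.SpecialLinearGroup (Fin 3) K →* G} (hker : π.ker ≤ Subgroup.center (_root_.Matrix.SpecialLinearGroup (Fin 3) K))

include hker

/-- **`g ^ 2` acts trivially (inner case).** -/
theorem ActA.exists_diag (h2 : (2 : K) ≠ 0) {g : G} {H : GL (Fin 3) K} (h : ActA π g H)
    (hc : ∀ X, g * g * π X = π X * (g * g)) :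
    ∃ A : _root_.Matrix.SpecialLinearGroup (Fin 3) K, ∃ E ∈ Dg K, ActA π (π A * g * (π A)⁻¹) E := by
  obtain ⟨μ, hμ⟩ := (h.mul h).scalar_of hker hc
  rw [Units.val_mul] at hμ
  have hdet : (H : Matrix (Fin 3) (Fin 3) K).det ≠ 0 := det_ne H
  set M : Matrix (Fin 3) (Fin 3) K := (H : Matrix (Fin 3) (Fin 3) K) with hM
  have hd2 : M.det * M.det = μ ^ 3 := by
    rw [← det_mul, hμ]
    simp
  have hμ0 : μ ≠ 0 := by
    rintro rfl
    rw [zero_pow (by decide)] at hd2
    exact hdet (mul_self_eq_zero.1 hd2)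
  have hν : (M.det / μ) * (M.det / μ) = μ := by
    field_simp
    linear_combination hd2
  have hν0 : M.det / μ ≠ 0 := div_ne_zero hdet hμ0
  set ν := M.det / μ with hνd
  obtain ⟨B, e, he⟩ := exists_diag_of_invol h2 (H := ν⁻¹ • M) (by
    rw [smul_mul_smul_comm, hμ, ← mul_inv, hν]
    ext i j
    by_cases hij : i = j
    · subst hij
      simp [inv_mul_cancel₀ hμ0]
    · simp [hij])
  refine ⟨B, toG B * H * (toG B)⁻¹, ?_, ((actA_pi B).mul h).mul ?_⟩
  · refine ⟨fun i => ν * e i, ?_⟩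
    have h1 : (B : Matrix (Fin 3) (Fin 3) K) * M = diagonal (fun i => ν * e i) * B := by
      rw [mul_smul_comm] at he
      have h3 := congrArg (fun X => ν • X) he
      simp only [smul_smul, mul_inv_cancel₀ hν0, one_smul] at h3
      rw [h3]
      ext i j
      simp [mul_assoc]
    rw [Units.val_mul, Units.val_mul, coe_toG, ← hM, h1, mul_assoc, ← coe_toG B, ← Units.val_mul, mul_inv_cancel,
      Units.val_one, mul_one]
  · rw [← map_inv]
    have h4 := actA_pi (π := π) B⁻¹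
    have h5 : toG B⁻¹ = (toG B)⁻¹ := by
      apply gext
      rfl
    rwa [h5] at h4

/-- **`g ^ 2` acts trivially (graph case).** -/
theorem ActT.exists_diag (h2 : (2 : K) ≠ 0) {g : G} {H : GL (Fin 3) K} (h : ActT π g H)
    (hc : ∀ X, g * g * π X = π X * (g * g)) :
    ∃ A : _root_.Matrix.SpecialLinearGroup (Fin 3) K, ∃ E ∈ Dg K, ActT π (π A * g * (π A)⁻¹) E := by
  obtain ⟨μ, hμ⟩ := (h.mulT h).scalar_of hker hc
  have hdet : (H : Matrix (Fin 3) (Fin 3) K).det ≠ 0 := det_ne H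
  rw [Units.val_mul, coe_tiG] at hμ
  have h1 : (H : Matrix (Fin 3) (Fin 3) K) = μ • (H : Matrix (Fin 3) (Fin 3) K)ᵀ := by
    have h3 : ((H⁻¹ : GL (Fin 3) K) : Matrix (Fin 3) (Fin 3) K)ᵀ * (H : Matrix (Fin 3) (Fin 3) K)ᵀ = 1 := by
      rw [← transpose_mul, ← Units.val_mul, mul_inv_cancel, Units.val_one, transpose_one]
    calc (H : Matrix (Fin 3) (Fin 3) K)
        = H * (((H⁻¹ : GL (Fin 3) K) : Matrix (Fin 3) (Fin 3) K)ᵀ * (H : Matrix (Fin 3) (Fin 3) K)ᵀ) := by
          rw [h3, mul_one]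
      _ = scalar (Fin 3) μ * (H : Matrix (Fin 3) (Fin 3) K)ᵀ := by rw [← mul_assoc, hμ]
      _ = _ := by
        rw [scalar_apply]
        ext i j
        simp
  set M : Matrix (Fin 3) (Fin 3) K := (H : Matrix (Fin 3) (Fin 3) K) with hM
  have hT : Mᵀ = μ • M := by
    conv_lhs => rw [h1]
    rw [transpose_smul, transpose_transpose]
  have hμ2 : μ * μ = 1 := by
    have h3 : M = (μ * μ) • M := by
      conv_lhs => rw [h1, hT, smul_smul]
    by_contra hne
    apply hdet
    have h4 : M = 0 := by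
      have h5 : (μ * μ - 1) • M = 0 := by
        rw [sub_smul, one_smul, ← h3, sub_self]
      exact (smul_eq_zero.1 h5).resolve_left (sub_ne_zero.2 hne)
    rw [h4, det_zero]
  have hsym : Mᵀ = M := by
    rcases mul_self_eq_one_iff.1 hμ2 with h3 | h3
    · rw [hT, h3, one_smul]
    · exact absurd (det_eq_zero_of_skew h2 (by rw [hT, h3, neg_one_smul])) hdet
  obtain ⟨B, e, he⟩ := exists_diag_of_symm h2 hsym
  refine ⟨B, toG B * H * tiG (toG B)⁻¹, ⟨e, ?_⟩, ((actA_pi B).mulT h).mul ?_⟩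
  · rw [Units.val_mul, Units.val_mul, coe_toG, coe_tiG, inv_inv, coe_toG, ← hM, he]
  · rw [← map_inv]
    have h4 := actA_pi (π := π) B⁻¹
    have h5 : toG B⁻¹ = (toG B)⁻¹ := by
      apply gext
      rfl
    rwa [h5] at h4

/-- two matrices with the same action differ by a diagonal (scalar) matrix -/
theorem act_eq {H H' : GL (Fin 3) K} (h : ∀ X, π (cjS H X) = π (cjS H' X)) : H'⁻¹ * H ∈ Dg K :=
  mem_Dg_of_scalar (scalar_of_eq hker h)

/-- **(Q1), abstract.** -/
theorem q1 (h2 : (2 : K) ≠ 0) {T : Subgroup G}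
    (t1 : ∀ A : _root_.Matrix.SpecialLinearGroup (Fin 3) K, toG A ∈ Dg K → π A ∈ T)
    (t3 : ∀ t ∈ T, ∃ δ ∈ Dg K, ActA π t δ) {A₀ : _root_.Matrix.SpecialLinearGroup (Fin 3) K} {t : G} (ht : t ∈ T)
    (hc : ∀ X, π A₀ * t * (π A₀ * t) * π X = π X * (π A₀ * t * (π A₀ * t))) :
    ∃ A, π A * (π A₀ * t) * (π A)⁻¹ ∈ T := by
  obtain ⟨δ, hδ, hact⟩ := t3 t ht
  obtain ⟨A, E, hE, h⟩ := ((actA_pi A₀).mul hact).exists_diag hker h2 hc
  refine ⟨A, ?_⟩
  have h1 : π A * (π A₀ * t) * (π A)⁻¹ = π (A * A₀ * cjS δ A⁻¹) * t := by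
    rw [map_mul, map_mul, ← hact, map_inv]
    group
  have h3 : toG (A * A₀ * cjS δ A⁻¹) ∈ Dg K := by
    rw [h1] at h
    have h4 := act_eq hker (H := toG (A * A₀ * cjS δ A⁻¹) * δ) (H' := E) fun X => by
      rw [← (actA_pi _).mul hact X, ← h X]
    have h5 := mul_mem (mul_mem hE h4) (inv_mem hδ)
    rwa [mul_inv_cancel_left, mul_inv_cancel_right] at h5
  rw [h1]
  exact mul_mem (t1 _ h3) ht

omit hker in
theorem pi_mem_normalizer {T : Subgroup G} (t1 : ∀ A : _root_.Matrix.SpecialLinearGroup (Fin 3) K, toG A ∈ Dg K → π A ∈ T)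
    (t3 : ∀ t ∈ T, ∃ δ ∈ Dg K, ActA π t δ) {A : _root_.Matrix.SpecialLinearGroup (Fin 3) K} (hA : toG A ∈ Nm K) :
    π A ∈ Subgroup.normalizer (T : Set G) := by
  have key : ∀ A : _root_.Matrix.SpecialLinearGroup (Fin 3) K, toG A ∈ Nm K → ∀ t ∈ T, π A * t * (π A)⁻¹ ∈ T := by
    intro A hA t ht
    obtain ⟨δ, hδ, hact⟩ := t3 t ht
    have h1 : π A * t * (π A)⁻¹ = π (A * cjS δ A⁻¹) * t := by
      rw [map_mul, ← hact, map_inv]
      group
    rw [h1]
    refine mul_mem (t1 _ ?_) ht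
    have h2 : toG (A * cjS δ A⁻¹) = toG A * δ * (toG A)⁻¹ * δ⁻¹ := by
      apply gext
      rw [coe_toG, cmul, coe_cjS, Units.val_mul, Units.val_mul, Units.val_mul, coe_toG]
      simp only [mul_assoc]
      rfl
    rw [h2]
    exact mul_mem (conj_mem_Dg hA hδ) (inv_mem hδ)
  rw [Subgroup.mem_normalizer_iff]
  intro t
  refine ⟨key A hA t, fun h => ?_⟩
  have h3 : toG A⁻¹ = (toG A)⁻¹ := gext rfl
  have h4 := key A⁻¹ (by rw [h3]; exact inv_mem hA) _ h
  rw [map_inv] at h4
  have h5 : (π A)⁻¹ * (π A * t * (π A)⁻¹) * (π A)⁻¹⁻¹ = t := by group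
  rwa [h5] at h4

/-- **(Q2), abstract.** -/
theorem q2 (h2 : (2 : K) ≠ 0) {T : Subgroup G}
    (t1 : ∀ A : _root_.Matrix.SpecialLinearGroup (Fin 3) K, toG A ∈ Dg K → π A ∈ T)
    (t3 : ∀ t ∈ T, ∃ δ ∈ Dg K, ActA π t δ) {A₀ : _root_.Matrix.SpecialLinearGroup (Fin 3) K} {n : G}
    (hn : n ∈ Subgroup.normalizer (T : Set G)) {M : GL (Fin 3) K} (hM : M ∈ Nm K)
    (hact : ActA π n M ∨ ActT π n M)
    (hc : ∀ X, π A₀ * n * (π A₀ * n) * π X = π X * (π A₀ * n * (π A₀ * n))) :
    ∃ A, π A * (π A₀ * n) * (π A)⁻¹ ∈ Subgroup.normalizer (T : Set G) := by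
  rcases hact with hact | hact
  · obtain ⟨A, E, hE, h⟩ := ((actA_pi A₀).mul hact).exists_diag hker h2 hc
    refine ⟨A, ?_⟩
    have h1 : π A * (π A₀ * n) * (π A)⁻¹ = π (A * A₀ * cjS M A⁻¹) * n := by
      rw [map_mul, map_mul, ← hact, map_inv]
      group
    have h3 : toG (A * A₀ * cjS M A⁻¹) ∈ Nm K := by
      rw [h1] at h
      have h4 := act_eq hker (H := toG (A * A₀ * cjS M A⁻¹) * M) (H' := E) fun X => by
        rw [← (actA_pi _).mul hact X, ← h X]
      have h5 := mul_mem (Dg_le_Nm (mul_mem hE h4)) (inv_mem hM)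
      rwa [mul_inv_cancel_left, mul_inv_cancel_right] at h5
    rw [h1]
    exact mul_mem (pi_mem_normalizer t1 t3 h3) hn
  · obtain ⟨A, E, hE, h⟩ := ((actA_pi A₀).mulT hact).exists_diag hker h2 hc
    refine ⟨A, ?_⟩
    have h1 : π A * (π A₀ * n) * (π A)⁻¹ = π (A * A₀ * cjS M (ti A⁻¹)) * n := by
      rw [map_mul, map_mul, ← hact, map_inv]
      group
    have h3 : toG (A * A₀ * cjS M (ti A⁻¹)) ∈ Nm K := by
      rw [h1] at h
      have h4 := act_eq hker (H := toG (A * A₀ * cjS M (ti A⁻¹)) * M) (H' := E) fun X => by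
        have h6 := (actA_pi (π := π) (A * A₀ * cjS M (ti A⁻¹))).mulT hact (ti X)
        have h7 := h (ti X)
        rw [ti_ti] at h6 h7
        rw [← h6, ← h7]
      have h5 := mul_mem (Dg_le_Nm (mul_mem hE h4)) (inv_mem hM)
      rwa [mul_inv_cancel_left, mul_inv_cancel_right] at h5
    rw [h1]
    exact mul_mem (pi_mem_normalizer t1 t3 h3) hn

end Cfsg.Agent.H428.OT.Lin
end

-- part: H428/OT/Coc
section
/-!
# Monomial actions on the image of `SL₃(K)` (helper428), for S2539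

`exists_mono` : `φ, ψ : SL₃(K) →* G`, kernel of `ψ` central, `φ (x_ij(u)) = ψ (x_{σi,σj}(κ_ij u))`: then `φ X = ψ (H X H⁻¹)`
with `H` a monomial matrix over `σ`.  `exists_act` : the same for an element permuting the root groups.
-/

set_option autoImplicit false

namespace Cfsg.Agent.H428.OT.Lin

open Matrix
open scoped commutatorElement

universe u v

variable {K : Type u} [Field K] {G : Type v} [Group G]

/-- the root elements of `SL₃` -/
abbrev tv {i j : Fin 3} (hij : i ≠ j) (u : K) : _root_.Matrix.SpecialLinearGroup (Fin 3) K := SpecialLinearGroup.transvection hij u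

theorem tv_coe {i j : Fin 3} (hij : i ≠ j) (u : K) : ((tv hij u : _root_.Matrix.SpecialLinearGroup (Fin 3) K) : Matrix (Fin 3) (Fin 3) K) =
    1 + single i j u := rfl

/-- root elements modulo the centre -/
theorem tv_inj_of_center {i j k l : Fin 3} (hij : i ≠ j) (hkl : k ≠ l) {u v : K}
    (h : tv hij u * (tv hkl v)⁻¹ ∈ Subgroup.center (_root_.Matrix.SpecialLinearGroup (Fin 3) K)) (hu : u ≠ 0) :
    i = k ∧ j = l ∧ u = v := by
  obtain ⟨r, -, hr⟩ := Matrix.SpecialLinearGroup.mem_center_iff.1 h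
  have h1 : ((tv hij u : _root_.Matrix.SpecialLinearGroup (Fin 3) K) : Matrix (Fin 3) (Fin 3) K) =
      scalar (Fin 3) r * ((tv hkl v : _root_.Matrix.SpecialLinearGroup (Fin 3) K) : Matrix (Fin 3) (Fin 3) K) := by
    rw [hr, ← cmul, inv_mul_cancel_right]
  rw [tv_coe, tv_coe] at h1
  have h2 : r = 1 := by
    have h3 := congrFun (congrFun h1 i) i
    rw [scalar_apply, diagonal_mul, Matrix.add_apply, Matrix.add_apply, one_apply_eq,
      single_apply_of_ne _ _ _ _ _ (fun h => hij h.2.symm),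
      single_apply_of_ne _ _ _ _ _ (fun h => hkl (h.1.trans h.2.symm)), add_zero, mul_one] at h3
    exact h3.symm
  subst h2
  rw [map_one, one_mul, add_right_inj] at h1
  have h3 := congrFun (congrFun h1 i) j
  rw [single_apply_same, single_apply] at h3
  split_ifs at h3 with h4
  · exact ⟨h4.1.symm, h4.2.symm, h3⟩
  · exact absurd h3 hu

/-- the monomial matrix over `σ` -/
def mono (σ : Equiv.Perm (Fin 3)) (δ : Fin 3 → K) (hδ : ∀ i, δ i ≠ 0) : GL (Fin 3) K where
  val := Matrix.of fun k l => if k = σ l then δ l else 0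
  inv := Matrix.of fun k l => if l = σ k then (δ k)⁻¹ else 0
  val_inv := by
    ext k l
    rw [mul_apply, Finset.sum_eq_single (σ.symm k)]
    · rw [of_apply, of_apply, if_pos (σ.apply_symm_apply k).symm, σ.apply_symm_apply, one_apply]
      by_cases hkl : k = l
      · rw [if_pos hkl.symm, if_pos hkl, mul_inv_cancel₀ (hδ _)]
      · rw [if_neg (Ne.symm hkl), if_neg hkl, mul_zero]
    · intro m _ hm
      rw [of_apply, if_neg (fun h => hm (by rw [h, σ.symm_apply_apply])), zero_mul]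
    · intro h
      exact absurd (Finset.mem_univ _) h
  inv_val := by
    ext k l
    rw [mul_apply, Finset.sum_eq_single (σ k)]
    · rw [of_apply, of_apply, if_pos rfl, one_apply]
      by_cases hkl : k = l
      · rw [if_pos (congrArg σ hkl), if_pos hkl, hkl, inv_mul_cancel₀ (hδ _)]
      · rw [if_neg (fun h => hkl (σ.injective h)), if_neg hkl, mul_zero]
    · intro m _ hm
      rw [of_apply, if_neg hm, zero_mul]
    · intro h
      exact absurd (Finset.mem_univ _) h

theorem mono_coe (σ : Equiv.Perm (Fin 3)) (δ : Fin 3 → K) (hδ : ∀ i, δ i ≠ 0) (k l : Fin 3) :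
    (mono σ δ hδ : Matrix (Fin 3) (Fin 3) K) k l = if k = σ l then δ l else 0 := rfl

theorem mono_one_mem (δ : Fin 3 → K) (hδ : ∀ i, δ i ≠ 0) : mono 1 δ hδ ∈ Dg K := by
  refine ⟨δ, ?_⟩
  ext k l
  rw [mono_coe, diagonal_apply, Equiv.Perm.one_apply]
  by_cases hkl : k = l
  · rw [if_pos hkl, if_pos hkl, hkl]
  · rw [if_neg hkl, if_neg hkl]

theorem mono_mul_diagonal (σ : Equiv.Perm (Fin 3)) (δ : Fin 3 → K) (hδ : ∀ i, δ i ≠ 0) (e : Fin 3 → K) :
    (mono σ δ hδ : Matrix (Fin 3) (Fin 3) K) * diagonal e =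
      diagonal (fun i => e (σ.symm i)) * (mono σ δ hδ : Matrix (Fin 3) (Fin 3) K) := by
  ext k l
  rw [mul_diagonal, diagonal_mul, mono_coe]
  by_cases hkl : k = σ l
  · rw [if_pos hkl, hkl, σ.symm_apply_apply, mul_comm]
  · rw [if_neg hkl, zero_mul, mul_zero]

theorem mono_mem (σ : Equiv.Perm (Fin 3)) (δ : Fin 3 → K) (hδ : ∀ i, δ i ≠ 0) : mono σ δ hδ ∈ Nm K := by
  have hinv : ((mono σ δ hδ : GL (Fin 3) K) : Matrix (Fin 3) (Fin 3) K) *
      (((mono σ δ hδ)⁻¹ : GL (Fin 3) K) : Matrix (Fin 3) (Fin 3) K) = 1 := by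
    rw [← Units.val_mul, mul_inv_cancel, Units.val_one]
  have hinv' : (((mono σ δ hδ)⁻¹ : GL (Fin 3) K) : Matrix (Fin 3) (Fin 3) K) *
      ((mono σ δ hδ : GL (Fin 3) K) : Matrix (Fin 3) (Fin 3) K) = 1 := by
    rw [← Units.val_mul, inv_mul_cancel, Units.val_one]
  refine Subgroup.mem_normalizer_iff.2 fun H => ⟨?_, ?_⟩
  · rintro ⟨e, he⟩
    refine ⟨fun i => e (σ.symm i), ?_⟩
    rw [Units.val_mul, Units.val_mul, he, mono_mul_diagonal, mul_assoc, hinv, mul_one]
  · rintro ⟨e, he⟩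
    refine ⟨fun i => e (σ i), ?_⟩
    have h1 : (mono σ δ hδ : Matrix (Fin 3) (Fin 3) K) * (H : Matrix (Fin 3) (Fin 3) K) =
        mono σ δ hδ * diagonal (fun i => e (σ i)) := by
      rw [mono_mul_diagonal]
      simp only [σ.apply_symm_apply]
      rw [← he, Units.val_mul, Units.val_mul, mul_assoc _ _ (mono σ δ hδ : Matrix (Fin 3) (Fin 3) K), hinv', mul_one]
    have h2 := congrArg (fun X => (((mono σ δ hδ)⁻¹ : GL (Fin 3) K) : Matrix (Fin 3) (Fin 3) K) * X) h1
    simp only [← mul_assoc, hinv', one_mul] at h2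
    exact h2

theorem mono_tv (σ : Equiv.Perm (Fin 3)) (δ : Fin 3 → K) (hδ : ∀ i, δ i ≠ 0) {i j : Fin 3} (hij : i ≠ j) (u : K) :
    cjS (mono σ δ hδ) (tv hij u) = tv (σ.injective.ne hij) (δ i * (δ j)⁻¹ * u) := by
  have hinv : ((mono σ δ hδ : GL (Fin 3) K) : Matrix (Fin 3) (Fin 3) K) *
      (((mono σ δ hδ)⁻¹ : GL (Fin 3) K) : Matrix (Fin 3) (Fin 3) K) = 1 := by
    rw [← Units.val_mul, mul_inv_cancel, Units.val_one]
  apply slext
  rw [coe_cjS, tv_coe, tv_coe]
  have h1 : ((mono σ δ hδ : GL (Fin 3) K) : Matrix (Fin 3) (Fin 3) K) * (1 + single i j u) =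
      (1 + single (σ i) (σ j) (δ i * (δ j)⁻¹ * u)) * (mono σ δ hδ : Matrix (Fin 3) (Fin 3) K) := by
    rw [mul_add, add_mul, mul_one, one_mul]
    congr 1
    ext k l
    by_cases hl : l = j
    · subst hl
      by_cases hk : k = σ i
      · subst hk
        rw [mul_single_apply_same, single_mul_apply_same, mono_coe, mono_coe, if_pos rfl, if_pos rfl]
        have := hδ l
        field_simp
      · rw [mul_single_apply_same, single_mul_apply_of_ne _ _ _ _ _ hk, mono_coe, if_neg hk, zero_mul]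
    · by_cases hk : k = σ i
      · subst hk
        rw [mul_single_apply_of_ne _ _ _ _ _ hl, single_mul_apply_same, mono_coe,
          if_neg (fun h => hl (σ.injective h).symm), mul_zero]
      · rw [mul_single_apply_of_ne _ _ _ _ _ hl, single_mul_apply_of_ne _ _ _ _ _ hk]
  rw [h1, mul_assoc, hinv, mul_one]

theorem ne_one_of_ker {ψ : _root_.Matrix.SpecialLinearGroup (Fin 3) K →* G}
    (hker : ψ.ker ≤ Subgroup.center (_root_.Matrix.SpecialLinearGroup (Fin 3) K)) {i j k l : Fin 3} (hij : i ≠ j) (hkl : k ≠ l)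
    {u v : K} (h : ψ (tv hij u) = ψ (tv hkl v)) (hu : u ≠ 0) : i = k ∧ j = l ∧ u = v :=
  tv_inj_of_center hij hkl (hker (by rw [MonoidHom.mem_ker, map_mul, map_inv, h, mul_inv_cancel])) hu

/-- **a homomorphism which is monomial on the root elements is conjugation by a monomial matrix** -/
theorem exists_mono {φ ψ : _root_.Matrix.SpecialLinearGroup (Fin 3) K →* G}
    (hker : ψ.ker ≤ Subgroup.center (_root_.Matrix.SpecialLinearGroup (Fin 3) K)) (σ : Equiv.Perm (Fin 3)) (κ : Fin 3 → Fin 3 → K)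
    (hκ : ∀ i j, i ≠ j → κ i j ≠ 0)
    (h : ∀ (i j : Fin 3) (hij : i ≠ j) (u : K), φ (tv hij u) = ψ (tv (σ.injective.ne hij) (κ i j * u))) :
    ∃ (δ : Fin 3 → K) (hδ : ∀ i, δ i ≠ 0), ∀ X, φ X = ψ (cjS (mono σ δ hδ) X) := by
  have coc : ∀ i k j : Fin 3, i ≠ k → k ≠ j → i ≠ j → κ i j = κ i k * κ k j := by
    intro i k j hik hkj hij
    have h1 : φ (tv hij 1) = ψ (tv (σ.injective.ne hij) (κ i k * κ k j)) := by
      have h2 := LieClassical.SLGen.commutator_transvection hij hik hkj (1 : K) 1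
      rw [mul_one] at h2
      have h3 := LieClassical.SLGen.commutator_transvection (σ.injective.ne hij) (σ.injective.ne hik)
        (σ.injective.ne hkj) (κ i k) (κ k j)
      rw [tv, ← h2, map_commutatorElement]
      have h4 := h i k hik 1
      have h5 := h k j hkj 1
      rw [mul_one] at h4 h5
      rw [tv] at h4 h5
      rw [h4, h5, ← map_commutatorElement]
      exact congrArg ψ h3
    have h2 := h i j hij 1
    rw [h1, mul_one] at h2
    exact (ne_one_of_ker hker _ _ h2.symm (hκ i j hij)).2.2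
  have n10 := hκ 1 0 (by decide)
  have n20 := hκ 2 0 (by decide)
  have n12 := hκ 1 2 (by decide)
  have n21 := hκ 2 1 (by decide)
  have c1 : κ 1 2 = κ 1 0 * κ 0 2 := coc 1 0 2 (by decide) (by decide) (by decide)
  have c2 : κ 0 2 = κ 0 1 * κ 1 2 := coc 0 1 2 (by decide) (by decide) (by decide)
  have c3 : κ 2 1 = κ 2 0 * κ 0 1 := coc 2 0 1 (by decide) (by decide) (by decide)
  have c4 : κ 0 1 = κ 0 2 * κ 2 1 := coc 0 2 1 (by decide) (by decide) (by decide)
  have e01 : κ 0 1 = (κ 1 0)⁻¹ := by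
    refine eq_inv_of_mul_eq_one_right (mul_right_cancel₀ n12 ?_)
    rw [one_mul]
    linear_combination (-1 : K) * c1 - κ 1 0 * c2
  have e02 : κ 0 2 = (κ 2 0)⁻¹ := by
    refine eq_inv_of_mul_eq_one_right (mul_right_cancel₀ n21 ?_)
    rw [one_mul]
    linear_combination (-1 : K) * c3 - κ 2 0 * c4
  have hδ : ∀ i : Fin 3, (if i = 0 then (1 : K) else κ i 0) ≠ 0 := by
    intro i
    split_ifs with hi
    · exact one_ne_zero
    · exact hκ i 0 hi
  refine ⟨fun i => if i = 0 then 1 else κ i 0, hδ, ?_⟩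
  have hκδ : ∀ i j : Fin 3, i ≠ j →
      κ i j = (if i = 0 then (1 : K) else κ i 0) * (if j = 0 then (1 : K) else κ j 0)⁻¹ := by
    intro i j hij
    fin_cases i <;> fin_cases j
    · exact absurd rfl hij
    · simpa using e01
    · simpa using e02
    · simp
    · exact absurd rfl hij
    · show κ 1 2 = κ 1 0 * (κ 2 0)⁻¹
      rw [c1, e02]
    · simp
    · show κ 2 1 = κ 2 0 * (κ 1 0)⁻¹
      rw [c3, e01]
    · exact absurd rfl hij
  refine LieClassical.SLGen.transvection_induction (fun X => φ X = ψ (cjS (mono σ _ hδ) X)) ?_ ?_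
  · intro i j hij c
    have h1 := mono_tv σ _ hδ hij c
    rw [tv] at h1
    rw [h1, ← hκδ i j hij]
    exact h i j hij c
  · intro A B hA hB
    rw [map_mul, hA, hB, map_mul, map_mul]

theorem tv_congr {i j k l : Fin 3} (hij : i ≠ j) (hkl : k ≠ l) (h1 : i = k) (h2 : j = l) (u : K) :
    tv hij u = tv hkl u := by
  subst h1 h2
  rfl

theorem tv_zero {i j : Fin 3} (hij : i ≠ j) : (tv hij (0 : K)) = 1 := by
  apply slext
  rw [tv_coe, cone, single_zero, add_zero]

theorem ti_tv {i j : Fin 3} (hij : i ≠ j) (u : K) : ti (tv hij u) = tv hij.symm (-u) := by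
  apply slext
  rw [coe_ti, tv, Matrix.SpecialLinearGroup.transvection_inv]
  rw [← tv, tv_coe, tv_coe, transpose_add, transpose_one, transpose_single]

theorem comm_tv {i j k l : Fin 3} (hij : i ≠ j) (hkl : k ≠ l) (hjk : j ≠ k) (hil : i ≠ l) (u v : K) :
    ⁅tv hij u, tv hkl v⁆ = 1 := by
  rw [commutatorElement_eq_one_iff_mul_comm]
  apply LieClassical.SLGen.smul_ext
  intro w
  rw [mul_smul, mul_smul]
  simp only [tv, LieClassical.SLGen.transvection_smul]
  ext m
  simp only [hjk, Ne.symm hil, _root_.Pi.add_apply, _root_.Pi.smul_apply, _root_.ne_eq, _root_.not_false_eq_true, _root_.Pi.single_eq_of_ne, _root_.smul_eq_mul, _root_.MulZeroClass.mul_zero, _root_.add_zero]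
  ring

/-- the permutation of `Fin 3` with three given values -/
theorem exists_perm {p q r : Fin 3} (hpq : p ≠ q) (hqr : q ≠ r) (hpr : p ≠ r) :
    ∃ σ : Equiv.Perm (Fin 3), σ 0 = p ∧ σ 1 = q ∧ σ 2 = r := by
  revert p q r
  decide +kernel

/-- **an element permuting the root groups acts as a monomial matrix, possibly after inverse transpose** -/
theorem exists_act {π : _root_.Matrix.SpecialLinearGroup (Fin 3) K →* G}
    (hker : π.ker ≤ Subgroup.center (_root_.Matrix.SpecialLinearGroup (Fin 3) K)) {g : G} (τ₁ τ₂ : Fin 3 → Fin 3 → Fin 3)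
    (κ : Fin 3 → Fin 3 → K) (hτ : ∀ i j, i ≠ j → τ₁ i j ≠ τ₂ i j)
    (hs : ∀ i j, i ≠ j → τ₁ j i = τ₂ i j ∧ τ₂ j i = τ₁ i j) (hκ : ∀ i j, i ≠ j → κ i j ≠ 0)
    (h : ∀ (i j : Fin 3) (hij : i ≠ j) (u : K), g * π (tv hij u) * g⁻¹ = π (tv (hτ i j hij) (κ i j * u))) :
    ∃ M ∈ Nm K, ActA π g M ∨ ActT π g M := by
  have hinj : ∀ {x y : G}, g * x * g⁻¹ = g * y * g⁻¹ → x = y := fun {x y} e =>
    mul_left_cancel (mul_right_cancel e)
  have hcomm : ⁅π (tv (hτ 0 1 (by decide)) (κ 0 1)), π (tv (hτ 1 2 (by decide)) (κ 1 2))⁆ =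
      π (tv (hτ 0 2 (by decide)) (κ 0 2)) := by
    have h1 := h 0 1 (by decide) 1
    have h2 := h 1 2 (by decide) 1
    have h3 := h 0 2 (by decide) 1
    rw [mul_one] at h1 h2 h3
    rw [← h1, ← h2, ← h3]
    have h4 := LieClassical.SLGen.commutator_transvection (i := (0 : Fin 3)) (k := 1) (j := 2) (by decide) (by decide)
      (by decide) (1 : K) 1
    rw [mul_one] at h4
    rw [tv, tv, tv, ← h4, map_commutatorElement, commutatorElement_def, commutatorElement_def]
    group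
  by_cases hqr : τ₂ 0 1 = τ₁ 1 2
  · have hps : τ₁ 0 1 ≠ τ₂ 1 2 := by
      intro hps
      have h1 := h 1 2 (by decide) (κ 1 0 * (κ 1 2)⁻¹)
      have h2 := h 1 0 (by decide) 1
      have h3 : κ 1 2 * (κ 1 0 * (κ 1 2)⁻¹) = κ 1 0 * 1 := by
        have := hκ 1 2 (by decide)
        field_simp
      rw [h3, tv_congr (hτ 1 2 (by decide)) (hτ 1 0 (by decide)) (by rw [← hqr, (hs 0 1 (by decide)).1])
        (by rw [← hps, (hs 0 1 (by decide)).2]), ← h2] at h1
      have h4 := ne_one_of_ker hker (by decide) (by decide) (hinj h1)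
        (mul_ne_zero (hκ 1 0 (by decide)) (inv_ne_zero (hκ 1 2 (by decide))))
      exact absurd h4.2.1 (by decide)
    have h1 : π (tv (hτ 0 2 (by decide)) (κ 0 2)) = π (tv hps (κ 0 1 * κ 1 2)) := by
      rw [← hcomm, tv_congr (hτ 0 1 (by decide)) (k := τ₁ 0 1) (l := τ₁ 1 2)
        (fun h => hτ 0 1 (by decide) (h.trans hqr.symm)) rfl hqr, ← map_commutatorElement]
      exact congrArg π (LieClassical.SLGen.commutator_transvection hps _ _ _ _)
    obtain ⟨e1, e2, -⟩ := ne_one_of_ker hker _ _ h1 (hκ 0 2 (by decide))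
    obtain ⟨σ, s0, s1, s2⟩ := exists_perm (hτ 0 1 (by decide)) (r := τ₂ 1 2)
      (fun h => hτ 1 2 (by decide) (hqr.symm.trans h)) hps
    have hσ : ∀ i j : Fin 3, i ≠ j → τ₁ i j = σ i ∧ τ₂ i j = σ j := by
      intro i j hij
      fin_cases i <;> fin_cases j
      · exact absurd rfl hij
      · exact ⟨s0.symm, s1.symm⟩
      · exact ⟨e1.trans s0.symm, e2.trans s2.symm⟩
      · exact ⟨(hs 0 1 (by decide)).1.trans s1.symm, (hs 0 1 (by decide)).2.trans s0.symm⟩
      · exact absurd rfl hij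
      · exact ⟨hqr.symm.trans s1.symm, s2.symm⟩
      · exact ⟨((hs 0 2 (by decide)).1.trans e2).trans s2.symm, ((hs 0 2 (by decide)).2.trans e1).trans s0.symm⟩
      · exact ⟨(hs 1 2 (by decide)).1.trans s2.symm, ((hs 1 2 (by decide)).2.trans hqr.symm).trans s1.symm⟩
      · exact absurd rfl hij
    obtain ⟨δ, hδ, hX⟩ := exists_mono (φ := (MulAut.conj g).toMonoidHom.comp π) hker σ κ hκ fun i j hij u => by
      show g * π (tv hij u) * g⁻¹ = _
      rw [h i j hij u]
      exact congrArg π (tv_congr _ _ (hσ i j hij).1 (hσ i j hij).2 _)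
    exact ⟨_, mono_mem σ δ hδ, Or.inl hX⟩
  · by_cases hps : τ₁ 0 1 = τ₂ 1 2
    · have h1 : π (tv (hτ 0 2 (by decide)) (κ 0 2)) = π (tv (Ne.symm hqr) (-(κ 1 2 * κ 0 1))) := by
        rw [← hcomm, tv_congr (hτ 1 2 (by decide)) (k := τ₁ 1 2) (l := τ₁ 0 1)
          (fun h => hτ 1 2 (by decide) (h.trans hps)) rfl hps.symm, ← map_commutatorElement]
        refine congrArg π ?_
        rw [← commutatorElement_inv]
        have h2 := LieClassical.SLGen.commutator_transvection (Ne.symm hqr)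
          (fun h : τ₁ 1 2 = τ₁ 0 1 => hτ 1 2 (by decide) (h.trans hps)) (hτ 0 1 (by decide)) (κ 1 2) (κ 0 1)
        rw [tv, tv, h2, Matrix.SpecialLinearGroup.transvection_inv]
      obtain ⟨e1, e2, -⟩ := ne_one_of_ker hker _ _ h1 (hκ 0 2 (by decide))
      obtain ⟨σ, s0, s1, s2⟩ := exists_perm (hτ 0 1 (by decide)).symm (r := τ₁ 1 2)
        (fun h => hτ 1 2 (by decide) (h.symm.trans hps)) hqr
      have hσ : ∀ i j : Fin 3, i ≠ j → τ₁ i j = σ j ∧ τ₂ i j = σ i := by
        intro i j hij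
        fin_cases i <;> fin_cases j
        · exact absurd rfl hij
        · exact ⟨s1.symm, s0.symm⟩
        · exact ⟨e1.trans s2.symm, e2.trans s0.symm⟩
        · exact ⟨(hs 0 1 (by decide)).1.trans s0.symm, (hs 0 1 (by decide)).2.trans s1.symm⟩
        · exact absurd rfl hij
        · exact ⟨s2.symm, hps.symm.trans s1.symm⟩
        · exact ⟨((hs 0 2 (by decide)).1.trans e2).trans s0.symm, ((hs 0 2 (by decide)).2.trans e1).trans s2.symm⟩
        · exact ⟨((hs 1 2 (by decide)).1.trans hps.symm).trans s1.symm, (hs 1 2 (by decide)).2.trans s2.symm⟩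
        · exact absurd rfl hij
      obtain ⟨δ, hδ, hX⟩ := exists_mono (φ := ((MulAut.conj g).toMonoidHom.comp π).comp ti) hker σ
        (fun i j => -κ j i) (fun i j hij => neg_ne_zero.2 (hκ j i hij.symm)) fun i j hij u => by
        show g * π (ti (tv hij u)) * g⁻¹ = _
        rw [ti_tv, h j i hij.symm (-u)]
        refine congrArg π ?_
        rw [tv_congr _ (σ.injective.ne hij) (hσ j i hij.symm).1 (hσ j i hij.symm).2, mul_neg, neg_mul]
      refine ⟨_, mono_mem σ δ hδ, Or.inr fun X => ?_⟩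
      have h2 := hX (ti X)
      rw [← h2]
      show _ = g * π (ti (ti X)) * g⁻¹
      rw [ti_ti]
    · exfalso
      rw [← map_commutatorElement, comm_tv _ _ hqr hps, map_one] at hcomm
      have h1 : π (tv (hτ 0 2 (by decide)) (κ 0 2)) = π (tv (hτ 0 2 (by decide)).symm 0) := by
        rw [← hcomm, tv_zero, map_one]
      exact hτ 0 2 (by decide) (ne_one_of_ker hker _ _ h1 (hκ 0 2 (by decide))).1

end Cfsg.Agent.H428.OT.Lin
end

private theorem dce_3ea865586816 : _root_.True := by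
  try have : _root_.True := by simp only [_root_.Cfsg.Agent.H428.OT.Lin.mono.congr_simp]
  try have : _root_.True := by simp only [_root_.Cfsg.Agent.H428.OT.Lin.tv.eq_1]
  exact _root_.True.intro
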