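import Cfsg.Agent.H3.OT.Weyl
import Cfsg.Agent.KFacts.ChevTwoInst
import Cfsg.Agent.H355.RgdRoots
import Cfsg.Agent.H428.OT.Coc
import Cfsg.Agent.H46.MSChev
import Cfsg.Agent.FastGrp
import Cfsg.Agent.Prune
set_option linter.all false

-- part: H501/OT/Long
section
set_option linter.all false
open scoped Cfsg.Agent.FastGrp

namespace Cfsg.Agent.H90F

private noncomputable def frc {α : Type} (x : ℕ) (f : ℕ → α) : α := Nat.rec (f 0) (fun k _ => f (Nat.succ k)) x

private theorem frc_eq {α : Type} (x : ℕ) (f : ℕ → α) : frc x f = f x := by cases x <;> rfl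

private noncomputable def nth {α : Type} (d : α) (l : List α) : ℕ → α :=
  List.rec (fun _ => d) (fun a _ ih n => Nat.rec a (fun k _ => ih k) n) l

private theorem nth_eq {α : Type} (d : α) (l : List α) (n : ℕ) : nth d l n = l.getD n d := by
  induction l generalizing n with
  | nil => rfl
  | cons a l ih => cases n with
    | zero => rfl
    | succ k => exact ih k

private theorem nth_arr {α : Type} (d : α) (a : Array α) (n : ℕ) : a.getD n d = nth d a.toList n := by
  rw [nth_eq, List.getD_eq_getElem?_getD, Array.getD_eq_getD_getElem?, Array.getElem?_toList]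

private noncomputable def fng (D : Cfsg.Lie.ChevalleyDatum) (r : ℕ) : ℕ := frc r (nth 0 D.negIdx.toList)

private theorem ng_eq (D : Cfsg.Lie.ChevalleyDatum) : D.neg = fng D := by
  funext r
  rw [fng, frc_eq]
  exact nth_arr _ _ _

private theorem ng_fun : Cfsg.Lie.ChevalleyDatum.neg = fng := funext ng_eq

private noncomputable def fsi (D : Cfsg.Lie.ChevalleyDatum) (i : ℕ) : ℕ := frc i (nth 0 D.simpleIdx.toList)

private theorem si_eq (D : Cfsg.Lie.ChevalleyDatum) : D.simple = fsi D := by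
  funext r
  rw [fsi, frc_eq]
  exact nth_arr _ _ _

private theorem si_fun : Cfsg.Lie.ChevalleyDatum.simple = fsi := funext si_eq

private noncomputable def fca (D : Cfsg.Lie.ChevalleyDatum) (i s : ℕ) : ℤ :=
  frc i fun i => frc s (nth 0 (nth #[] D.cartanSR.toList i).toList)

private theorem ca_eq (D : Cfsg.Lie.ChevalleyDatum) : D.cartan = fca D := by
  funext i s
  rw [fca, frc_eq, frc_eq, ← nth_arr, ← nth_arr]
  rfl

private theorem ca_fun : Cfsg.Lie.ChevalleyDatum.cartan = fca := funext ca_eq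

private noncomputable def fgd {α : Type} (a : Array α) (n : ℕ) (d : α) : α := frc n (nth d a.toList)

private theorem gd_eq {α : Type} (a : Array α) (n : ℕ) (d : α) : a.getD n d = fgd a n d := by
  rw [fgd, frc_eq, nth_arr]

private theorem gd_fun : @Array.getD.{0} = @fgd := by
  funext α a n d; exact gd_eq a n d

private noncomputable def dOf {P : Prop} (b : Bool) (h : b = true ↔ P) : Decidable P :=
  Bool.rec (motive := fun c => b = c → Decidable P) (fun e => isFalse fun hp => Bool.noConfusion (e.symm.trans (h.2 hp)))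
    (fun e => isTrue (h.1 e)) b rfl

private noncomputable def flt (n : ℕ) (p : ∀ k, k < n → Bool) (m : ℕ) : Bool :=
  Nat.rec true (fun k ih => Bool.rec false ih
    (Bool.rec (motive := fun b => Nat.ble (Nat.succ k) n = b → Bool) (fun _ => true)
      (fun h => p k (Nat.le_of_ble_eq_true h)) (Nat.ble (Nat.succ k) n) rfl)) m

private theorem flt_one (n : ℕ) (p : ∀ k, k < n → Bool) (k : ℕ) (b : Bool) (e : Nat.ble (Nat.succ k) n = b) :
    (Bool.rec (motive := fun b => Nat.ble (Nat.succ k) n = b → Bool) (fun _ => true)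
      (fun h => p k (Nat.le_of_ble_eq_true h)) b e : Bool) = true ↔ ∀ h, p k h = true := by
  cases b
  · exact ⟨fun _ h => absurd (Nat.ble_eq_true_of_le h) (by rw [e]; exact Bool.false_ne_true), fun _ => rfl⟩
  · exact ⟨fun h _ => h, fun h => h _⟩

private theorem flt_iff (n : ℕ) (p : ∀ k, k < n → Bool) (m : ℕ) :
    flt n p m = true ↔ ∀ k, k < m → ∀ h, p k h = true := by
  induction m with
  | zero => exact ⟨fun _ k h => absurd h (Nat.not_lt_zero k), fun _ => rfl⟩
  | succ m ih =>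
    have e : ∀ a b : Bool, (Bool.rec false a b : Bool) = true ↔ b = true ∧ a = true := by decide
    refine (e _ _).trans ((and_congr (flt_one n p m _ rfl) ih).trans ⟨fun h k hk => ?_, fun h => ⟨h m (Nat.lt_succ_self m), fun k hk => h k (Nat.lt_succ_of_lt hk)⟩⟩)
    rcases Nat.lt_succ_iff_lt_or_eq.1 hk with h1 | h1
    · exact h.2 k h1
    · exact h1 ▸ h.1

private noncomputable def fbl (n : ℕ) (P : ∀ k, k < n → Prop) [H : ∀ k h, Decidable (P k h)] : Decidable (∀ k h, P k h) :=
  dOf (flt n (fun k h => @decide _ (H k h)) n)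
    ((flt_iff _ _ _).trans ⟨fun h k hk => of_decide_eq_true (h k hk hk), fun h k _ hk => decide_eq_true (h k hk)⟩)

private theorem bl_fun : @Nat.decidableBallLT = @fbl := by
  funext n P H; exact Subsingleton.elim _ _

private noncomputable def fal {α : Type} (l : List α) (p : α → Bool) : Bool :=
  List.rec true (fun a _ ih => Bool.rec false ih (p a)) l

private theorem al_fun : @List.all.{0} = @fal := by
  funext α l p
  induction l with
  | nil => rfl
  | cons a l ih => rw [List.all_cons, ih]; show _ = (Bool.rec false (fal l p) (p a) : Bool); cases p a <;> rfl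

private noncomputable def fan {α : Type} (l : List α) (p : α → Bool) : Bool :=
  List.rec false (fun a _ ih => Bool.rec ih true (p a)) l

private theorem an_fun : @List.any.{0} = @fan := by
  funext α l p
  induction l with
  | nil => rfl
  | cons a l ih => rw [List.any_cons, ih]; show _ = (Bool.rec (fan l p) true (p a) : Bool); cases p a <;> rfl

private noncomputable def fmp {α β : Type} (f : α → β) (l : List α) : List β := List.rec [] (fun a _ ih => f a :: ih) l

private theorem mp_fun : @List.map.{0, 0} = @fmp := by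
  funext α β f l
  induction l with
  | nil => rfl
  | cons a l ih => rw [List.map_cons, ih]; rfl

private noncomputable def ffr {α β : Type} (f : α → β → β) (b : β) (l : List α) : β := List.rec b (fun a _ ih => f a ih) l

private theorem fr_fun : @List.foldr.{0, 0} = @ffr := by
  funext α β f b l
  induction l with
  | nil => rfl
  | cons a l ih => rw [List.foldr_cons, ih]; rfl

private theorem bn_eq (a b : ℕ) : (a == b) = Nat.beq a b := by
  rw [Bool.eq_iff_iff, beq_iff_eq, Nat.beq_eq]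

private theorem bn_fun : @BEq.beq ℕ instBEqOfDecidableEq = Nat.beq := by
  funext a b; exact bn_eq a b

private theorem dl_fun : Nat.decLt = fun a b => dOf (Nat.ble (Nat.succ a) b) Nat.ble_eq.to_iff := by
  funext a b; exact Subsingleton.elim _ _

private theorem de_fun : Nat.decLe = fun a b => dOf (Nat.ble a b) Nat.ble_eq.to_iff := by
  funext a b; exact Subsingleton.elim _ _

private noncomputable def ibq (a b : ℤ) : Bool :=
  Int.rec (fun m => Int.rec (fun n => Nat.beq m n) (fun _ => false) b) (fun m => Int.rec (fun _ => false) (fun n => Nat.beq m n) b) a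

private theorem ibq_iff (a b : ℤ) : ibq a b = true ↔ a = b := by
  rcases a with m | m <;> rcases b with n | n
  · exact Nat.beq_eq.to_iff.trans ⟨fun h => h ▸ rfl, Int.ofNat.inj⟩
  · exact ⟨fun h => Bool.noConfusion h, fun h => nomatch h⟩
  · exact ⟨fun h => Bool.noConfusion h, fun h => nomatch h⟩
  · exact Nat.beq_eq.to_iff.trans ⟨fun h => h ▸ rfl, Int.negSucc.inj⟩

private theorem dz_fun : Int.instDecidableEq = fun a b => dOf (ibq a b) (ibq_iff a b) := by
  funext a b; exact Subsingleton.elim _ _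

private noncomputable def snn (m n : ℕ) : ℤ := Nat.rec (Int.ofNat (Nat.sub m n)) (fun k _ => Int.negSucc k) (Nat.sub n m)

private theorem snn_eq (m n : ℕ) : Int.subNatNat m n = snn m n := by
  unfold Int.subNatNat snn
  show _ = (Nat.rec _ _ (n - m) : ℤ)
  cases n - m <;> rfl

private noncomputable def iad (a b : ℤ) : ℤ :=
  Int.rec (fun m => Int.rec (fun n => Int.ofNat (Nat.add m n)) (fun n => snn m (Nat.succ n)) b)
    (fun m => Int.rec (fun n => snn n (Nat.succ m)) (fun n => Int.negSucc (Nat.succ (Nat.add m n))) b) a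

private theorem c1_fun : @HAdd.hAdd ℤ ℤ ℤ _ = iad := by
  funext a b
  rcases a with m | m <;> rcases b with n | n
  · rfl
  · exact snn_eq _ _
  · exact snn_eq _ _
  · rfl

private noncomputable def ngo (n : ℕ) : ℤ := Nat.rec (Int.ofNat 0) (fun k _ => Int.negSucc k) n

private theorem ngo_eq (n : ℕ) : Int.negOfNat n = ngo n := by cases n <;> rfl

private noncomputable def iml (a b : ℤ) : ℤ :=
  Int.rec (fun m => Int.rec (fun n => Int.ofNat (Nat.mul m n)) (fun n => ngo (Nat.mul m (Nat.succ n))) b)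
    (fun m => Int.rec (fun n => ngo (Nat.mul (Nat.succ m) n)) (fun n => Int.ofNat (Nat.mul (Nat.succ m) (Nat.succ n))) b) a

private theorem c2_fun : @HMul.hMul ℤ ℤ ℤ _ = iml := by
  funext a b
  rcases a with m | m <;> rcases b with n | n
  · rfl
  · exact ngo_eq _
  · exact ngo_eq _
  · rfl

end Cfsg.Agent.H90F

/-!
# S2539: linear Weyl action, long roots (helper501)

* `exists_rep` : for `n ∈ N` there is `w ∈ W` with `vec (π n r) = w (vec r)` for all roots `r`;
* `pr_eq` : `pr D r s = ⟨vec s, vec r^∨⟩`; `pr_perm`; `perm_neg`; `long_perm`;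
* `abs_pr_le` : `|⟨s, r^∨⟩| ≤ 2` for `r` long;
* `eq_zero_of_long` : a vector orthogonal to all long roots is zero;
* `pr_mul_lt` : `0 ≤ ⟨a, b^∨⟩⟨b, a^∨⟩ < 4` for `b ≠ ± a`.
-/

set_option autoImplicit false
set_option linter.unusedSectionVars false

namespace Cfsg.Agent.H501.OT

open CoxeterSystem Cfsg.Agent.ChevalleyStructure.CoxeterGeom Cfsg.Agent.Tits.Roots Cfsg.Agent.Tits.Core
  Cfsg.Agent.Nodes.Reps Cfsg.Agent.Nodes.BNOf
open Cfsg.Lie Cfsg.Agent.ChevalleyStructure Cfsg.Agent.ChevalleyStructure.Elts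
  Cfsg.Agent.ChevalleyStructure.NPerm Cfsg.Agent.ChevalleyStructure.CoxeterGeomTypes
open Cfsg.Agent.Nodes.RGDChev Cfsg.Agent.Nodes.Coroot Cfsg.Agent.H412.OT

universe u

section Check

/-- `r` is long, boolean -/
def longB (D : ChevalleyDatum) (r : ℕ) : Bool :=
  (List.range D.nroots).all fun s => s == r || (s == D.neg r || decide ((KFacts.ChevTwoTab.carB D r s).natAbs ≤ 1))

/-- every simple root is not orthogonal to some long root -/
def simB (D : ChevalleyDatum) : Bool :=
  (List.range D.rank).all fun i => (List.range D.nroots).any fun r =>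
    decide (KFacts.ChevTwoTab.carB D (D.simple i) r ≠ 0) && longB D r

theorem simB_G2 : simB chevG2 = true := by decide +kernel
theorem simB_B2 : simB chevB2 = true := by decide +kernel
theorem simB_D4 : simB chevD4 = true := by decide +kernel
theorem simB_F4 : simB chevF4 = true := by (delta Cfsg.Agent.KFacts.ChevTwoTab.carB Cfsg.Agent.H501.OT.longB List.sum Cfsg.Agent.H501.OT.simB; rewrite [H90F.bn_fun, H90F.de_fun, H90F.dz_fun, H90F.ng_fun, H90F.si_fun, H90F.ca_fun, H90F.gd_fun, H90F.al_fun, H90F.an_fun, H90F.mp_fun, H90F.fr_fun]; decide +kernel)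
theorem simB_E6 : simB chevE6 = true := by (delta Cfsg.Agent.KFacts.ChevTwoTab.carB Cfsg.Agent.H501.OT.longB List.sum Cfsg.Agent.H501.OT.simB; rewrite [H90F.bn_fun, H90F.de_fun, H90F.dz_fun, H90F.ng_fun, H90F.si_fun, H90F.ca_fun, H90F.gd_fun, H90F.al_fun, H90F.an_fun, H90F.mp_fun, H90F.fr_fun]; decide +kernel)
theorem simB_E7 : simB chevE7 = true := by (delta Cfsg.Agent.KFacts.ChevTwoTab.carB Cfsg.Agent.H501.OT.longB List.sum Cfsg.Agent.H501.OT.simB; rewrite [H90F.bn_fun, H90F.de_fun, H90F.dz_fun, H90F.ng_fun, H90F.si_fun, H90F.ca_fun, H90F.gd_fun, H90F.al_fun, H90F.an_fun, H90F.mp_fun, H90F.fr_fun, H90F.c1_fun, H90F.c2_fun]; decide +kernel)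

/-- `carB`, without the terms with coefficient zero -/
def carZ (D : ChevalleyDatum) (r s : ℕ) : ℤ :=
  ((List.range D.rank).map fun k => bif decide ((D.coroot.getD r #[]).getD k 0 = 0) then 0 else
    (D.coroot.getD r #[]).getD k 0 * D.cartan k s).sum

theorem carZ_eq (D : ChevalleyDatum) (r s : ℕ) : carZ D r s = KFacts.ChevTwoTab.carB D r s := by
  unfold carZ KFacts.ChevTwoTab.carB
  congr 1
  refine List.map_congr_left fun k _ => ?_
  by_cases h : (D.coroot.getD r #[]).getD k 0 = 0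
  · rw [decide_eq_true h, cond_true, h, zero_mul]
  · rw [decide_eq_false h, cond_false]

/-- one simple root of `simB` -/
def simB1 (D : ChevalleyDatum) (i : ℕ) : Bool :=
  decide (D.simple i < D.nroots) && (decide (carZ D (D.simple i) (D.simple i) ≠ 0) &&
    (List.range D.nroots).all fun s => s == D.simple i || (s == D.neg (D.simple i) ||
      decide ((carZ D (D.simple i) s).natAbs ≤ 1)))

theorem simB1_E8_a : ∀ i < 4, simB1 chevE8 i = true := by (delta Cfsg.Agent.H501.OT.carZ List.sum Cfsg.Agent.H501.OT.simB1; refine of_decide_eq_true ?_; rewrite [H90F.bn_fun, H90F.dl_fun, H90F.de_fun, H90F.dz_fun, H90F.ng_fun, H90F.si_fun, H90F.ca_fun, H90F.gd_fun, H90F.bl_fun, H90F.al_fun, H90F.mp_fun, H90F.fr_fun]; decide +kernel)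
theorem simB1_E8_b : ∀ i < 4, simB1 chevE8 (4 + i) = true := by (delta Cfsg.Agent.H501.OT.carZ List.sum Cfsg.Agent.H501.OT.simB1; refine of_decide_eq_true ?_; rewrite [H90F.bn_fun, H90F.dl_fun, H90F.de_fun, H90F.dz_fun, H90F.ng_fun, H90F.si_fun, H90F.ca_fun, H90F.gd_fun, H90F.bl_fun, H90F.al_fun, H90F.mp_fun, H90F.fr_fun]; decide +kernel)

theorem simB_of (D : ChevalleyDatum) (h : ∀ i < D.rank, simB1 D i = true) : simB D = true := by
  rw [simB, List.all_eq_true]
  intro i hi
  rw [List.any_eq_true]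
  have h1 := h i (List.mem_range.1 hi)
  simp only [simB1, carZ_eq] at h1
  rw [Bool.and_eq_true, decide_eq_true_eq] at h1
  exact ⟨D.simple i, List.mem_range.2 h1.1, h1.2⟩

theorem simB_E8 : simB chevE8 = true := by
  refine simB_of chevE8 fun i hi => ?_
  have hi8 : i < 8 := hi
  rcases Nat.lt_or_ge i 4 with h | h
  · exact simB1_E8_a i h
  · obtain ⟨j, rfl⟩ := Nat.exists_eq_add_of_le h
    exact simB1_E8_b j (by omega)

theorem simB_eq {D : ChevalleyDatum} (hD : InList D) : simB D = true := by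
  simp only [InList, List.mem_cons, List.not_mem_nil, or_false] at hD
  rcases hD with rfl | rfl | rfl | rfl | rfl | rfl | rfl
  exacts [simB_G2, simB_B2, simB_D4, simB_F4, simB_E6, simB_E7, simB_E8]

theorem isLong_of_longB {D : ChevalleyDatum} {r : ℕ} (hr : r < D.nroots) (h : longB D r = true) : IsLong D r := by
  refine ⟨hr, fun s hs h1 h2 => ?_⟩
  rw [longB, List.all_eq_true] at h
  have h3 := h s (List.mem_range.2 hs)
  rw [Bool.or_eq_true, Bool.or_eq_true, beq_iff_eq, beq_iff_eq, decide_eq_true_eq] at h3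
  have h4 := (h3.resolve_left h1).resolve_left h2
  rw [KFacts.ChevTwoInst.carB_eq] at h4
  have h5 : (pr D r s).natAbs ≤ 1 := h4
  rw [Int.abs_eq_natAbs]
  exact_mod_cast h5

theorem exists_long {D : ChevalleyDatum} (hD : InList D) {i : ℕ} (hi : i < D.rank) :
    ∃ r, IsLong D r ∧ pr D (D.simple i) r ≠ 0 := by
  have h := simB_eq hD
  rw [simB, List.all_eq_true] at h
  have h3 := h i (List.mem_range.2 hi)
  rw [List.any_eq_true] at h3
  obtain ⟨r, hr, h4⟩ := h3
  rw [Bool.and_eq_true, decide_eq_true_eq, KFacts.ChevTwoInst.carB_eq] at h4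
  exact ⟨r, isLong_of_longB (List.mem_range.1 hr) h4.2, h4.1⟩

end Check

section Lin

variable {D : ChevalleyDatum} {l : ℕ} {M : CoxeterMatrix (Fin l)} (hp : IsType D l M)
  {W : Type*} [Group W] (cs : CoxeterSystem M W) {K : Type u} [Field K]

theorem pr_eq {r s : ℕ} (hr : r < D.nroots) (hs : s < D.nroots) :
    pr D r s = cpr cs hp.isCartan (vec D l s) (vec D l r) :=
  (KFacts.ChevTwoInst.cpr_vec hp cs hr s hs).symm

/-- `n ∈ N` acts linearly on the roots. -/
theorem exists_rep (n : ↥(D.monomialSubgroup K)) : ∃ w : W, ∀ r : Fin D.nroots,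
    vec D l (permHom hp.inList K n r) = rep cs hp.isCartan w (vec D l r) := by
  have h1 : permHom hp.inList K n ∈ (permHom hp.inList K).range := ⟨n, rfl⟩
  rw [range_permHom hp.inList K] at h1
  generalize permHom hp.inList K n = σ at h1
  induction h1 using Subgroup.closure_induction with
  | mem x hx =>
    obtain ⟨i, rfl⟩ := hx
    have hi' : (i : ℕ) < l := by rw [← hp.rank_eq]; exact i.2
    refine ⟨cs.simple ⟨i, hi'⟩, fun r => ?_⟩
    rw [rep_vec hp cs ⟨i, hi'⟩ r.2]
    congr 1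
    exact permHom_nG hp.inList i.2 _ (coe_nG _ _ _) r
  | one => exact ⟨1, fun r => by rw [map_one, Module.End.one_apply]; rfl⟩
  | mul x y _ _ hx hy =>
    obtain ⟨v, hv⟩ := hx
    obtain ⟨w, hw⟩ := hy
    refine ⟨v * w, fun r => ?_⟩
    rw [Equiv.Perm.mul_apply, hv, hw, rep_mul_apply]
  | inv x _ hx =>
    obtain ⟨v, hv⟩ := hx
    refine ⟨v⁻¹, fun r => ?_⟩
    have := hv (x⁻¹ r)
    rw [show x (x⁻¹ r) = r from x.apply_symm_apply r] at this
    rw [this, rep_inv_apply]

include hp in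
/-- `N` preserves the pairing. -/
theorem pr_perm (n : ↥(D.monomialSubgroup K)) (r s : Fin D.nroots) :
    pr D (permHom hp.inList K n r) (permHom hp.inList K n s) = pr D r s := by
  have cs := M.toCoxeterSystem
  have := finite_W hp cs
  obtain ⟨w, hw⟩ := exists_rep hp cs (K := K) n
  rw [pr_eq hp cs (Fin.is_lt _) (Fin.is_lt _), pr_eq hp cs r.2 s.2, hw, hw, cpr_rep _ _ _ _ (isRoot_vec hp cs r.2)]

include hp in
theorem perm_neg (n : ↥(D.monomialSubgroup K)) (r : Fin D.nroots) :
    (permHom hp.inList K n ⟨D.neg r, neg_lt hp.inList r.2⟩ : Fin D.nroots).1 =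
      D.neg (permHom hp.inList K n r : Fin D.nroots) := by
  have cs := M.toCoxeterSystem
  obtain ⟨w, hw⟩ := exists_rep hp cs (K := K) n
  apply vec_inj hp (Fin.is_lt _) (neg_lt hp.inList (Fin.is_lt _))
  rw [vec_neg hp (Fin.is_lt _), hw, hw, vec_neg hp r.2, map_neg]

include hp in
theorem long_perm (n : ↥(D.monomialSubgroup K)) {r : Fin D.nroots} (hr : IsLong D r) :
    IsLong D (permHom hp.inList K n r : Fin D.nroots) := by
  refine ⟨Fin.is_lt _, fun s hs h1 h2 => ?_⟩
  obtain ⟨s', hs'⟩ := (permHom hp.inList K n).surjective ⟨s, hs⟩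
  have e : s = (permHom hp.inList K n s' : Fin D.nroots) := (congrArg Fin.val hs').symm
  subst e
  rw [pr_perm hp]
  refine hr.2 s' s'.2 (fun h => h1 ?_) (fun h => h2 ?_)
  · rw [Fin.ext h]
  · rw [← perm_neg hp]
    congr 2
    exact Fin.ext h

include hp in
theorem pr_self {r : ℕ} (hr : r < D.nroots) : pr D r r = 2 := by
  have cs := M.toCoxeterSystem
  have := finite_W hp cs
  rw [pr_eq hp cs hr hr, cpr_self cs _ (isRoot_vec hp cs hr)]

include hp in
theorem pr_neg {r : ℕ} (hr : r < D.nroots) : pr D r (D.neg r) = -2 := by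
  have cs := M.toCoxeterSystem
  have := finite_W hp cs
  rw [pr_eq hp cs hr (neg_lt hp.inList hr), vec_neg hp hr, cpr_neg cs _ _ (isRoot_vec hp cs hr),
    cpr_self cs _ (isRoot_vec hp cs hr)]

include hp in
theorem abs_pr_le {r s : ℕ} (hr : IsLong D r) (hs : s < D.nroots) : |pr D r s| ≤ 2 := by
  by_cases h1 : s = r
  · rw [h1, pr_self hp hr.1]; norm_num
  · by_cases h2 : s = D.neg r
    · rw [h2, pr_neg hp hr.1]; norm_num
    · exact (hr.2 s hs h1 h2).trans (by norm_num)

include hp in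
theorem pr_mul_lt {a b : ℕ} (ha : a < D.nroots) (hb : b < D.nroots) (h1 : b ≠ a) (h2 : b ≠ D.neg a) :
    0 ≤ pr D a b * pr D b a ∧ pr D a b * pr D b a < 4 := by
  have cs := M.toCoxeterSystem
  have := finite_W hp cs
  have := Fintype.ofFinite M.Group
  rw [pr_eq hp cs ha hb, pr_eq hp cs hb ha]
  refine Cfsg.Agent.H355.Rgd.cpr_mul_lt (isRoot_vec hp cs hb) (isRoot_vec hp cs ha) ?_ ?_
  · intro h
    exact h1 (vec_inj hp hb ha h.symm)
  · intro h
    apply h2
    apply vec_inj hp hb (neg_lt hp.inList ha)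
    rw [vec_neg hp ha, h, neg_neg]

/-- a vector orthogonal to all long roots is zero -/
theorem eq_zero_of_long {v : Fin l → ℤ}
    (hv : ∀ r, IsLong D r → cpr cs hp.isCartan v (vec D l r) = 0) : v = 0 := by
  have := finite_W hp cs
  have := Fintype.ofFinite W
  have h0 : ∀ i : Fin l, form cs hp.isCartan v (sr i) = 0 := by
    intro i
    have hi : (i : ℕ) < D.rank := by rw [hp.rank_eq]; exact i.2
    obtain ⟨r, hr, hne⟩ := exists_long hp.inList hi
    have hir := simple_lt hp.inList hi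
    -- the reflected root
    let n : ↥(D.monomialSubgroup (ULift.{0} ℚ)) := ⟨nG hp.inList (D.simple i) 1, nG_simple_mem hp.inList _ hi⟩
    have h1 := long_perm hp n (r := ⟨r, hr.1⟩) hr
    have h2 : ((permHom hp.inList (ULift.{0} ℚ) n ⟨r, hr.1⟩ : Fin D.nroots) : ℕ) = D.reflectRoot i r :=
      permHom_nG hp.inList hi _ (coe_nG _ _ _) _
    rw [h2] at h1
    have e1 := hv _ h1
    have e2 := hv _ hr
    rw [cpr_zero_iff cs hp.isCartan v (isRoot_vec hp cs h1.1)] at e1
    rw [cpr_zero_iff cs hp.isCartan v (isRoot_vec hp cs hr.1)] at e2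
    rw [← rep_vec hp cs i hr.1, rep_simple_eq, form_sub_right, e2, form_smul_right, zero_sub, neg_eq_zero,
      mul_eq_zero] at e1
    refine e1.resolve_left ?_
    intro h3
    apply hne
    rw [pr_eq hp cs hir hr.1, vec_simple hp i, cpr_sr, h3]
  by_contra hne
  have h1 := form_pos cs hp.isCartan hne
  rw [form_eq_sum] at h1
  refine h1.ne' (Finset.sum_eq_zero fun i _ => ?_)
  rw [h0]
  ring

end Lin

end Cfsg.Agent.H501.OT

private theorem dce_5ba4410a5a62 : _root_.True := by
  try have : _root_.True := by simp only [_root_.Cfsg.Agent.H501.OT.longB.eq_1]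
  try have : _root_.True := by simp only [_root_.Cfsg.Agent.H501.OT.simB.eq_1]
  try have : _root_.True := by simp only [_root_.Cfsg.Agent.H501.OT.simB1.eq_1]
  exact _root_.True.intro
end

-- part: H428/OT/ATwo
section
prune_inst 0x7f00000000000000000000000000000000000000000000000000000000000000000000000000000000000000000000000000000000000000000000000000000000000000000000000000000000000000003fffffffffffffffffffffffffffbeffbdffffffff
set_option linter.all false
open scoped Cfsg.Agent.FastGrp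

/-!
# Subsystem subgroups of type `A₂` (helper428), for S2539

`h : IsA2 D a b c`, `DA D K a b c = ⟨X_a, X_b, X_c, X_{-a}, X_{-b}, X_{-c}⟩`, a quotient of `SL₃(K)`.

* `Q1` : `x ∈ DA ⊔ T`, `x²` centralises `DA`: `x` is `DA`-conjugate into `T`;
* `Q2` : `x = d n`, `d ∈ DA`, `n ∈ N` permuting the six roots, `x²` centralises `DA`: `x` is `DA`-conjugate into `N(T)`;
* `Q3` : `DA` is perfect, its normal subgroups are `DA` or central in `DA`.
-/

set_option autoImplicit false

namespace Cfsg.Agent.H428.OT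

open Subgroup
open Cfsg Cfsg.Lie Cfsg.Lie.ChevalleyDatum
open Cfsg.Agent.ChevalleyStructure Cfsg.Agent.ChevalleyStructure.Elts Cfsg.Agent.ChevalleyStructure.NPerm
open Cfsg.Agent.H412.OT Cfsg.Agent.H46.MS Lin

universe u

variable {D : ChevalleyDatum} {K : Type u} [Field K]

/-- the subgroup generated by the six root subgroups -/
def DA (D : ChevalleyDatum) (K : Type u) [Field K] (a b c : ℕ) : Subgroup (GL D.Idx K) :=
  D.rootSubgroup K a ⊔ D.rootSubgroup K b ⊔ D.rootSubgroup K c ⊔ D.rootSubgroup K (D.neg a) ⊔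
    D.rootSubgroup K (D.neg b) ⊔ D.rootSubgroup K (D.neg c)

theorem DA_le_iff {a b c : ℕ} {F : Subgroup (GL D.Idx K)} : DA D K a b c ≤ F ↔
    ∀ i j : Fin 3, i ≠ j → D.rootSubgroup K (rt D a b c i j) ≤ F := by
  unfold DA
  simp only [sup_le_iff]
  constructor
  · rintro ⟨⟨⟨⟨⟨h1, h2⟩, h3⟩, h4⟩, h5⟩, h6⟩ i j hij
    fin_cases i <;> fin_cases j
    · exact absurd rfl hij
    · exact h1
    · exact h3
    · exact h4
    · exact absurd rfl hij
    · exact h2
    · exact h6
    · exact h5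
    · exact absurd rfl hij
  · intro h
    exact ⟨⟨⟨⟨⟨h 0 1 (by decide), h 1 2 (by decide)⟩, h 0 2 (by decide)⟩, h 1 0 (by decide)⟩, h 2 1 (by decide)⟩,
      h 2 0 (by decide)⟩

theorem rt_le_DA {a b c : ℕ} {i j : Fin 3} (hij : i ≠ j) : D.rootSubgroup K (rt D a b c i j) ≤ DA D K a b c :=
  DA_le_iff.1 le_rfl i j hij

/-- `π : SL₃(K) → DA` -/
structure Pi (hD : InList D) (a b c : ℕ) (π : Matrix.SpecialLinearGroup (Fin 3) K →* GL D.Idx K) : Prop where
  a2 : IsA2 D a b c
  tv : ∀ (i j : Fin 3) (hij : i ≠ j) (u : K), π (Lin.tv hij u) = xG hD (rt D a b c i j) u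
  range : π.range = DA D K a b c
  ker : π.ker ≤ center (Matrix.SpecialLinearGroup (Fin 3) K)

theorem exists_Pi (hD : InList D) {a b c : ℕ} (h : IsA2 D a b c) :
    ∃ π : Matrix.SpecialLinearGroup (Fin 3) K →* GL D.Idx K, Pi hD a b c π := by
  obtain ⟨π, h1, h2, h3⟩ := CTFrame.Hom.exists_hom (rx_stein hD (RingHom.id K) h) (rx_h hD (RingHom.id K) h) (by simp)
  refine ⟨π, h, h1, ?_, h3 ⟨0, 1, by decide, 1, ?_⟩⟩
  · rw [h2]
    apply le_antisymm
    · rw [closure_le]
      rintro g ⟨i, j, hij, t, rfl⟩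
      exact rt_le_DA hij (xG_mem_rootSubgroup hD _ _)
    · refine DA_le_iff.2 fun i j hij g hg => ?_
      obtain ⟨t, rfl⟩ := (mem_rootSubgroup_iff hD _ _).1 hg
      exact subset_closure ⟨i, j, hij, t, rfl⟩
  · unfold rx
    rw [map_one, Ne, xG_eq_one_iff hD (h.lt 0 1 (by decide))]
    exact one_ne_zero

namespace Pi

variable {hD : InList D} {a b c : ℕ} {π : Matrix.SpecialLinearGroup (Fin 3) K →* GL D.Idx K} (P : Pi hD a b c π)

include P

theorem mem_iff {x : GL D.Idx K} : x ∈ DA D K a b c ↔ ∃ A, π A = x := by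
  rw [← P.range]
  rfl

theorem pi_mem (A : Matrix.SpecialLinearGroup (Fin 3) K) : π A ∈ DA D K a b c := P.mem_iff.2 ⟨A, rfl⟩

/-- the images of the diagonal matrices -/
theorem diag2n_mem {i j : Fin 3} (hij : i ≠ j) (u : K) (hu : u ≠ 0) :
    π (Matrix.SpecialLinearGroup.diag2n hij u hu) ∈ D.diagonalSubgroup K := by
  have h1 : π (Matrix.SpecialLinearGroup.diag2n hij u hu) = hG hD (rt D a b c i j) u := by
    rw [LieClassical.SLGen.diag2n_decompose, hG_def, nG_def, nG_def, P.a2.neg i j hij]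
    simp only [map_mul]
    have e := fun t => P.tv i j hij t
    have e' := fun t => P.tv j i hij.symm t
    simp only [Lin.tv] at e e'
    rw [e, e, e', e', inv_neg, inv_one, _root_.neg_neg]
    simp only [mul_assoc]
  rw [h1]
  exact hG_mem hD (P.a2.lt i j hij) hu

/-- diagonal matrices go into the torus -/
theorem t1 (A : Matrix.SpecialLinearGroup (Fin 3) K) (hA : toG A ∈ Dg K) : π A ∈ D.diagonalSubgroup K := by
  obtain ⟨d, hd⟩ := hA
  rw [coe_toG] at hd
  have hdet : d 0 * d 1 * d 2 = 1 := by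
    have h1 := A.det_coe
    rw [hd, Matrix.det_diagonal, Fin.prod_univ_three] at h1
    exact h1
  have h0 : d 0 ≠ 0 := fun h => by rw [h, zero_mul, zero_mul] at hdet; exact zero_ne_one hdet
  have h1 : d 1 ≠ 0 := fun h => by rw [h, mul_zero, zero_mul] at hdet; exact zero_ne_one hdet
  have e : A = Matrix.SpecialLinearGroup.diag2n (show (0 : Fin 3) ≠ 1 by decide) (d 0) h0 *
      Matrix.SpecialLinearGroup.diag2n (show (1 : Fin 3) ≠ 2 by decide) (d 0 * d 1) (mul_ne_zero h0 h1) := by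
    apply slext
    rw [cmul, hd]
    show _ = Matrix.diagonal _ * Matrix.diagonal _
    rw [Matrix.diagonal_mul_diagonal]
    congr 1
    funext i
    fin_cases i
    · simp
    · simp [h0]
    · simp
      field_simp
      linear_combination hdet
  rw [e, map_mul]
  exact mul_mem (P.diag2n_mem _ _ _) (P.diag2n_mem _ _ _)

/-- torus elements act as diagonal matrices -/
theorem t3 (t : GL D.Idx K) (ht : t ∈ D.diagonalSubgroup K) : ∃ δ ∈ Dg K, ActA π t δ := by
  obtain ⟨δ, hδ, hX⟩ := exists_mono (φ := (MulAut.conj t).toMonoidHom.comp π) P.ker 1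
    (fun i j => chi D K t (rt D a b c i j)) (fun i j _ => chi_ne_zero hD ht _) fun i j hij u => by
      show t * π (Lin.tv hij u) * t⁻¹ = π (Lin.tv hij _)
      rw [P.tv, P.tv, tor_conj_xG hD ht (P.a2.lt i j hij)]
  exact ⟨_, mono_one_mem δ hδ, hX⟩

theorem rt_inj {i j k l : Fin 3} (hij : i ≠ j) (hkl : k ≠ l) (h : rt D a b c i j = rt D a b c k l) :
    i = k ∧ j = l := by
  have h1 : π (Lin.tv hij 1) = π (Lin.tv hkl 1) := by rw [P.tv, P.tv, h]
  have h2 := ne_one_of_ker P.ker hij hkl h1 one_ne_zero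
  exact ⟨h2.1, h2.2.1⟩

/-- elements of `N` permuting the six roots act as monomial matrices -/
theorem n1 (n : ↥(D.monomialSubgroup K))
    (hn : ∀ i j (hij : i ≠ j), ∃ k l : Fin 3, k ≠ l ∧
      (permHom hD K n ⟨rt D a b c i j, P.a2.lt i j hij⟩ : ℕ) = rt D a b c k l) :
    ∃ M ∈ Nm K, ActA π (n : GL D.Idx K) M ∨ ActT π (n : GL D.Idx K) M := by
  obtain ⟨l, M, hp⟩ := H3.OT.exists_isType hD
  have hn' : ∀ i j : Fin 3, ∃ x : Fin 3 × Fin 3 × K, ∀ hij : i ≠ j, x.1 ≠ x.2.1 ∧
      (permHom hD K n ⟨rt D a b c i j, P.a2.lt i j hij⟩ : ℕ) = rt D a b c x.1 x.2.1 ∧ x.2.2 ≠ 0 ∧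
      ∀ u, (n : GL D.Idx K) * π (Lin.tv hij u) * (n : GL D.Idx K)⁻¹ = xG hD (rt D a b c x.1 x.2.1) (x.2.2 * u) := by
    intro i j
    by_cases hij : i = j
    · exact ⟨(0, 0, 0), fun h => absurd hij h⟩
    · obtain ⟨k, l, hkl, e⟩ := hn i j hij
      obtain ⟨κ, hκ, e'⟩ := H3.OT.conj_xG hD n ⟨rt D a b c i j, P.a2.lt i j hij⟩
      refine ⟨(k, l, κ), fun _ => ⟨hkl, e, hκ, fun u => ?_⟩⟩
      rw [P.tv, e', e]
  choose x hx using hn'
  refine exists_act P.ker (fun i j => (x i j).1) (fun i j => (x i j).2.1) (fun i j => (x i j).2.2)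
    (fun i j hij => (hx i j hij).1) (fun i j hij => ?_) (fun i j hij => (hx i j hij).2.2.1) fun i j hij u => ?_
  · have h1 := H501.OT.perm_neg hp n ⟨rt D a b c i j, P.a2.lt i j hij⟩
    have h2 := (hx i j hij).2.1
    have h3 := (hx j i hij.symm).2.1
    have h4 : (⟨D.neg (rt D a b c i j), neg_lt hD (P.a2.lt i j hij)⟩ : Fin D.nroots) =
        ⟨rt D a b c j i, P.a2.lt j i hij.symm⟩ := Fin.ext (P.a2.neg i j hij)
    have h5 : rt D a b c (x j i).1 (x j i).2.1 = rt D a b c (x i j).2.1 (x i j).1 := by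
      rw [← h3, ← P.a2.neg _ _ (hx i j hij).1, ← h2, ← h1, ← h4]
    exact P.rt_inj (hx j i hij.symm).1 (hx i j hij).1.symm h5
  · rw [(hx i j hij).2.2.2 u, P.tv]

/-- the torus normalises `DA` -/
theorem mem_sup {x : GL D.Idx K} (hx : x ∈ DA D K a b c ⊔ D.diagonalSubgroup K) :
    ∃ A, ∃ t ∈ D.diagonalSubgroup K, x = π A * t := by
  have key : ∀ t ∈ D.diagonalSubgroup K, ∀ x ∈ DA D K a b c, t * x * t⁻¹ ∈ DA D K a b c := by
    intro t ht x hx
    obtain ⟨A, rfl⟩ := P.mem_iff.1 hx
    obtain ⟨δ, -, hδ⟩ := P.t3 t ht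
    rw [hδ]
    exact P.pi_mem _
  have hn : D.diagonalSubgroup K ≤ normalizer (DA D K a b c : Set (GL D.Idx K)) := by
    intro t ht
    rw [mem_normalizer_iff]
    intro x
    refine ⟨key t ht x, fun hx => ?_⟩
    have h1 := key t⁻¹ (inv_mem ht) _ hx
    have e : t⁻¹ * (t * x * t⁻¹) * t⁻¹⁻¹ = x := by group
    rwa [e] at h1
  have h1 : x ∈ ((DA D K a b c ⊔ D.diagonalSubgroup K : Subgroup (GL D.Idx K)) : Set (GL D.Idx K)) := hx
  rw [coe_mul_of_right_le_normalizer_left _ _ hn, Set.mem_mul] at h1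
  obtain ⟨y, hy, t, ht, e⟩ := h1
  obtain ⟨A, rfl⟩ := P.mem_iff.1 hy
  exact ⟨A, t, ht, e.symm⟩

end Pi

/-- the normal subgroups of `SL₃(K)` -/
theorem sl_normal (N : Subgroup (Matrix.SpecialLinearGroup (Fin 3) K)) [hN : N.Normal] :
    N ≤ center (Matrix.SpecialLinearGroup (Fin 3) K) ∨ N = ⊤ := by
  have hs : IsSimpleGroup (Matrix.ProjectiveSpecialLinearGroup (Fin 3) K) :=
    LieClassical.SLGen.psl_isSimpleGroup (by simp)
  let f : Matrix.SpecialLinearGroup (Fin 3) K →* Matrix.ProjectiveSpecialLinearGroup (Fin 3) K :=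
    QuotientGroup.mk' (center (Matrix.SpecialLinearGroup (Fin 3) K))
  have hf : Function.Surjective f := QuotientGroup.mk'_surjective _
  have hk : f.ker = center (Matrix.SpecialLinearGroup (Fin 3) K) := QuotientGroup.ker_mk' _
  rcases (hN.map f hf).eq_bot_or_eq_top with h1 | h1
  · left
    rw [← hk]
    intro x hx
    have h2 : f x ∈ N.map f := mem_map_of_mem f hx
    rwa [h1, mem_bot] at h2
  · right
    have key : ∀ g, ∃ n ∈ N, g * n⁻¹ ∈ center (Matrix.SpecialLinearGroup (Fin 3) K) := by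
      intro g
      have h2 : f g ∈ N.map f := by rw [h1]; exact mem_top _
      obtain ⟨n, hn, e⟩ := h2
      refine ⟨n, hn, ?_⟩
      rw [← hk, MonoidHom.mem_ker, map_mul, map_inv, e, mul_inv_cancel]
    rw [eq_top_iff, ← LieClassical.SLGen.commutator_eq_top (ι := Fin 3) (F := K) (by simp)]
    rw [_root_.commutator_def, commutator_le]
    intro g _ g' _
    obtain ⟨n, hn, hz⟩ := key g
    obtain ⟨n', hn', hz'⟩ := key g'
    rw [comm_eq_of_center hz hz', commutatorElement_def]
    exact mul_mem (mul_mem (mul_mem hn hn') (inv_mem hn)) (inv_mem hn')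

section Main

variable (hD : InList D) {a b c : ℕ} (h : IsA2 D a b c)

include hD h

/-- **(Q1)** -/
theorem Q1 (h2 : (2 : K) ≠ 0) {x : GL D.Idx K} (hx : x ∈ DA D K a b c ⊔ D.diagonalSubgroup K)
    (hc : ∀ y ∈ DA D K a b c, x ^ 2 * y = y * x ^ 2) :
    ∃ d ∈ DA D K a b c, d * x * d⁻¹ ∈ D.diagonalSubgroup K := by
  obtain ⟨π, P⟩ := exists_Pi (K := K) hD h
  obtain ⟨A₀, t, ht, rfl⟩ := P.mem_sup hx
  obtain ⟨A, hA⟩ := q1 P.ker h2 P.t1 P.t3 (A₀ := A₀) ht fun X => by
    have h1 := hc _ (P.pi_mem X)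
    rwa [pow_two] at h1
  exact ⟨π A, P.pi_mem A, hA⟩

/-- **(Q2)** -/
theorem Q2 (h2 : (2 : K) ≠ 0) {d : GL D.Idx K} (hd : d ∈ DA D K a b c) (n : ↥(D.monomialSubgroup K))
    (hn : ∀ i j (hij : i ≠ j), ∃ k l : Fin 3, k ≠ l ∧
      (permHom hD K n ⟨rt D a b c i j, h.lt i j hij⟩ : ℕ) = rt D a b c k l)
    (hc : ∀ y ∈ DA D K a b c, (d * n) ^ 2 * y = y * (d * n) ^ 2) :
    ∃ e ∈ DA D K a b c, e * (d * n) * e⁻¹ ∈ normalizer (D.diagonalSubgroup K : Set (GL D.Idx K)) := by
  obtain ⟨π, P⟩ := exists_Pi (K := K) hD h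
  obtain ⟨A₀, rfl⟩ := P.mem_iff.1 hd
  obtain ⟨M, hM, hact⟩ := P.n1 n hn
  obtain ⟨A, hA⟩ := q2 P.ker h2 P.t1 P.t3 (A₀ := A₀) (n := (n : GL D.Idx K)) (NConj.monomial_le_normalizer hD K n.2) hM hact fun X => by
    have h1 := hc _ (P.pi_mem X)
    rwa [pow_two] at h1
  exact ⟨π A, P.pi_mem A, hA⟩

/-- **(Q3)** `DA` is perfect -/
theorem DA_perfect : ⁅DA D K a b c, DA D K a b c⁆ = DA D K a b c := by
  obtain ⟨π, P⟩ := exists_Pi (K := K) hD h
  have h1 := LieClassical.SLGen.commutator_eq_top (ι := Fin 3) (F := K) (by simp)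
  rw [← P.range, MonoidHom.range_eq_map, ← map_commutator]
  congr 1

/-- **(Q3)** the normal subgroups of `DA` -/
theorem DA_normal {N : Subgroup (GL D.Idx K)} (hN : N ≤ DA D K a b c)
    (hn : ∀ x ∈ DA D K a b c, ∀ y ∈ N, x * y * x⁻¹ ∈ N) :
    N = DA D K a b c ∨ ∀ y ∈ N, ∀ x ∈ DA D K a b c, x * y = y * x := by
  obtain ⟨π, P⟩ := exists_Pi (K := K) hD h
  have h1 : (N.comap π).Normal := ⟨fun A hA B => by
    rw [mem_comap] at hA ⊢
    rw [map_mul, map_mul, map_inv]
    exact hn _ (P.pi_mem B) _ hA⟩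
  rcases sl_normal (N.comap π) with h2 | h2
  · right
    intro y hy x hx
    obtain ⟨A, rfl⟩ := P.mem_iff.1 (hN hy)
    obtain ⟨B, rfl⟩ := P.mem_iff.1 hx
    rw [← map_mul, ← map_mul, mem_center_iff.1 (h2 (show A ∈ N.comap π from hy)) B]
  · left
    refine le_antisymm hN fun x hx => ?_
    obtain ⟨B, rfl⟩ := P.mem_iff.1 hx
    have h3 : B ∈ N.comap π := by rw [h2]; exact mem_top _
    exact h3

end Main

end Cfsg.Agent.H428.OT
end
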